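import Cfsg.Agent.Lib.LocalEven.Zsigmondy
import Mathlib.NumberTheory.Fermat

/-!
# Primitive prime divisors against Fermat and Mersenne primes
-/

set_option autoImplicit false

namespace Cfsg.Agent.CITStruct

/-- `r` is a primitive prime divisor of `2 ^ n - 1`. -/
def Primitive (r n : ℕ) : Prop :=
  r.Prime ∧ r ∣ 2 ^ n - 1 ∧ ∀ k : ℕ, 0 < k → k < n → ¬ r ∣ 2 ^ k - 1

theorem Primitive.dvd_of_dvd {r n j : ℕ} (h : Primitive r n) (hn : 0 < n) (hj : r ∣ 2 ^ j - 1) :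
    n ∣ j := by
  have hg : r ∣ 2 ^ Nat.gcd n j - 1 := by
    rw [← Nat.pow_sub_one_gcd_pow_sub_one]; exact Nat.dvd_gcd h.2.1 hj
  have hpos : 0 < Nat.gcd n j := Nat.gcd_pos_of_pos_left _ hn
  have hle : Nat.gcd n j ≤ n := Nat.le_of_dvd hn (Nat.gcd_dvd_left _ _)
  rcases hle.lt_or_eq with hlt | heq
  · exact absurd hg (h.2.2 _ hpos hlt)
  · exact heq ▸ Nat.gcd_dvd_right n j

theorem exists_primitive {n : ℕ} (hn : 2 ≤ n) (h6 : n ≠ 6) : ∃ r, Primitive r n :=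
  (LEZsig.zsigmondy 2 n one_lt_two (by omega) (fun h => h6 h.2) (by
    rintro ⟨rfl, k, hk⟩
    rcases k with _ | k
    · simp at hk
    · rw [pow_succ] at hk; omega)).elim fun r hr => ⟨r, hr.1, hr.2.1, hr.2.2⟩

theorem Primitive.ne_two {r n : ℕ} (h : Primitive r n) (hn : 0 < n) : r ≠ 2 := by
  rintro rfl
  have := h.2.1
  have e : 0 < 2 ^ n := Nat.two_pow_pos n
  have : 2 ∣ 2 ^ n := dvd_pow_self 2 hn.ne'
  omega

theorem Primitive.succ_le {r n : ℕ} (h : Primitive r n) (hn : 0 < n) : n + 1 ≤ r := by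
  haveI := Fact.mk h.1
  have h2 : ((2 : ℕ) : ZMod r) ≠ 0 := by
    rw [Ne, ZMod.natCast_eq_zero_iff]
    exact fun e => h.ne_two hn ((Nat.prime_dvd_prime_iff_eq h.1 Nat.prime_two).1 e)
  have hf : r ∣ 2 ^ (r - 1) - 1 := by
    rw [← ZMod.natCast_eq_zero_iff, Nat.cast_sub Nat.one_le_two_pow, Nat.cast_pow, Nat.cast_one,
      ZMod.pow_card_sub_one_eq_one h2, sub_self]
  have h1 := h.1.two_le
  have := Nat.le_of_dvd (by omega) (h.dvd_of_dvd hn hf)
  omega

theorem pow_succ_dvd {k r : ℕ} (h : r ∣ 2 ^ k + 1) : r ∣ 2 ^ (2 * k) - 1 := by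
  have e : 2 ^ (2 * k) - 1 = (2 ^ k + 1) * (2 ^ k - 1) := by
    rw [pow_mul', ← Nat.sq_sub_sq, one_pow]
  exact e ▸ h.mul_right _

theorem fermat_exp {k : ℕ} (hk : 2 ≤ k) (hp : (2 ^ k + 1).Prime) : ∃ j, k = 2 ^ (j + 1) := by
  obtain ⟨j, rfl⟩ := Nat.pow_of_pow_add_prime one_lt_two (by omega) hp
  cases j with
  | zero => simp at hk
  | succ j => exact ⟨j, rfl⟩

theorem mersenne_exp {k : ℕ} (hk : 3 ≤ k) (hp : (2 ^ k - 1).Prime) : k.Prime ∧ Odd k := by
  have h := (Nat.prime_of_pow_sub_one_prime (by omega) hp).2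
  exact ⟨h, h.odd_of_ne_two (by omega)⟩

theorem three_dvd_two_pow_odd {k : ℕ} (hk : Odd k) : 3 ∣ 2 ^ k + 1 := by
  obtain ⟨j, rfl⟩ := hk
  have h : 2 ^ (2 * j + 1) % 3 = 2 := by rw [pow_succ, pow_mul, Nat.mul_mod, Nat.pow_mod]; norm_num
  exact Nat.dvd_of_mod_eq_zero (by rw [Nat.add_mod, h])

theorem three_dvd_two_pow_even {k : ℕ} (hk : Even k) : 3 ∣ 2 ^ k - 1 := by
  obtain ⟨j, rfl⟩ := hk
  have h : 2 ^ (j + j) % 3 = 1 := by rw [← two_mul, pow_mul, Nat.pow_mod]; norm_num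
  omega

/-- The prime set of `PSL(2, p)`, `p` a Fermat or Mersenne prime, is not that of `PSL(2, 2 ^ m)`. -/
theorem fermat_mersenne_false {p k m : ℕ} (hm : 4 ≤ m) (hp : p.Prime)
    (hk : p = 2 ^ k + 1 ∨ p + 1 = 2 ^ k)
    (h1 : ∀ r : ℕ, r.Prime → r ≠ 2 → r ∣ 2 ^ (2 * m) - 1 → r ∣ p ∨ r ∣ p - 1 ∨ r ∣ p + 1)
    (h2 : p ≠ 2 → p ∣ 2 ^ (2 * m) - 1) : False := by
  obtain ⟨R, hR⟩ := exists_primitive (n := 2 * m) (by omega) (by omega)
  have hR9 : 9 ≤ R := by have := hR.succ_le (by omega); omega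
  have hRd := h1 R hR.1 (hR.ne_two (by omega)) hR.2.1
  have h2pow : ∀ j, R ∣ 2 ^ j → False := fun j e =>
    hR.ne_two (by omega) ((Nat.prime_dvd_prime_iff_eq hR.1 Nat.prime_two).1 (hR.1.dvd_of_dvd_pow e))
  by_cases hp7 : p ≤ 7
  · rcases hRd with e | e | e
    · exact absurd (Nat.le_of_dvd hp.pos e) (by omega)
    · exact absurd (Nat.le_of_dvd (by have := hp.two_le; omega) e) (by omega)
    · exact absurd (Nat.le_of_dvd (by omega) e) (by omega)
  have hpm := h2 (by omega)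
  rcases hk with rfl | hk
  · have hk3 : 3 ≤ k := by
      by_contra hc
      interval_cases k <;> norm_num at hp7
    obtain ⟨j, hj⟩ := fermat_exp (by omega) hp
    have hg : 2 ^ k + 1 ∣ 2 ^ Nat.gcd (2 * m) (2 * k) - 1 := by
      rw [← Nat.pow_sub_one_gcd_pow_sub_one]; exact Nat.dvd_gcd hpm (pow_succ_dvd dvd_rfl)
    have hgk : Nat.gcd (2 * m) (2 * k) = 2 * k := by
      obtain ⟨c, hc⟩ := Nat.gcd_dvd_right (2 * m) (2 * k)
      rcases Nat.lt_or_ge c 2 with hc2 | hc2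
      · interval_cases c <;> omega
      · exfalso
        have hpos : 0 < Nat.gcd (2 * m) (2 * k) := Nat.gcd_pos_of_pos_left _ (by omega)
        have hle : Nat.gcd (2 * m) (2 * k) ≤ k := by
          have : Nat.gcd (2 * m) (2 * k) * 2 ≤ Nat.gcd (2 * m) (2 * k) * c := Nat.mul_le_mul_left _ hc2
          omega
        have h3 : 2 ^ Nat.gcd (2 * m) (2 * k) ≤ 2 ^ k := Nat.pow_le_pow_right (by norm_num) hle
        have h4 : 1 < 2 ^ Nat.gcd (2 * m) (2 * k) := Nat.one_lt_two_pow hpos.ne'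
        have := Nat.le_of_dvd (by omega) hg
        omega
    have hkm : k ∣ m := Nat.dvd_of_mul_dvd_mul_left two_pos (hgk ▸ Nat.gcd_dvd_left (2 * m) (2 * k))
    have hkm' := Nat.le_of_dvd (by omega) hkm
    have hp1 : 2 ^ k + 1 + 1 = 2 * (2 ^ (k - 1) + 1) := by
      rw [mul_add, ← pow_succ', show k - 1 + 1 = k by omega]
    rcases hRd with e | e | e
    · have h := Nat.dvd_of_mul_dvd_mul_left two_pos
        (hR.dvd_of_dvd (by omega) (pow_succ_dvd e))
      have hmk : m = k := Nat.dvd_antisymm h hkm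
      obtain ⟨i, hi⟩ : 4 ∣ k := by
        rcases j with _ | j
        · norm_num at hj; omega
        · exact ⟨2 ^ j, by rw [hj]; ring⟩
      have h5 : 5 ∣ 2 ^ (2 * m) - 1 := by
        have h : 2 ^ (2 * m) % 5 = 1 := by
          rw [hmk, hi, show 2 * (4 * i) = 4 * (2 * i) by ring, pow_mul, Nat.pow_mod]; norm_num
        omega
      have h16 : 2 ^ k % 5 = 1 := by rw [hi, pow_mul, Nat.pow_mod]; norm_num
      rcases h1 5 (by norm_num) (by norm_num) h5 with e | e | e <;> omega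
    · exact h2pow k (by simpa using e)
    · rw [hp1] at e
      have h := Nat.dvd_of_mul_dvd_mul_left two_pos (hR.dvd_of_dvd (by omega)
        (pow_succ_dvd ((hR.1.dvd_mul.1 e).resolve_left fun e2 => h2pow 1 (by simpa using e2))))
      have := Nat.le_of_dvd (by omega) h
      omega
  · have hk3 : 3 ≤ k := by
      by_contra hc
      interval_cases k <;> omega
    have hpk : p = 2 ^ k - 1 := by omega
    obtain ⟨hkp, hko⟩ := mersenne_exp hk3 (hpk ▸ hp)
    have hkm : k ∣ 2 * m := by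
      have hg : p ∣ 2 ^ Nat.gcd k (2 * m) - 1 := by
        rw [← Nat.pow_sub_one_gcd_pow_sub_one]; exact Nat.dvd_gcd (dvd_of_eq hpk) hpm
      rcases (Nat.dvd_prime hkp).1 (Nat.gcd_dvd_left k (2 * m)) with h | h
      · rw [h] at hg; simp at hg; omega
      · exact h ▸ Nat.gcd_dvd_right k (2 * m)
    have hkm' := Nat.le_of_dvd (by omega) hkm
    rcases hRd with e | e | e
    · obtain ⟨c, hc⟩ := hR.dvd_of_dvd (by omega) (hpk ▸ e)
      exact Nat.not_even_iff_odd.2 hko ⟨m * c, by rw [hc]; ring⟩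
    · have hp1 : p - 1 = 2 * (2 ^ (k - 1) - 1) := by
        have : 2 ^ k = 2 * 2 ^ (k - 1) := by rw [← pow_succ', show k - 1 + 1 = k by omega]
        omega
      rw [hp1] at e
      have := Nat.le_of_dvd (by omega) (hR.dvd_of_dvd (by omega)
        ((hR.1.dvd_mul.1 e).resolve_left fun e2 => h2pow 1 (by simpa using e2)))
      omega
    · exact h2pow k (hk ▸ e)

end Cfsg.Agent.CITStruct
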