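import Cfsg.Agent.Lib.CITStruct.Primes
import Cfsg.Agent.Lib.CITStruct.Arith
import Cfsg.Agent.Lib.Suzuki.Minor
import Cfsg.Agent.Lib.Suzuki.Tori
import Cfsg.Agent.S3633
import Cfsg.Prelude.Def_Sz

/-!
# The prime graph of a Suzuki group
-/

set_option autoImplicit false
set_option linter.style.haveILetI false

namespace Cfsg.Agent.CITStruct.GraphSz

open Cfsg.Agent.CITStruct Cfsg.Agent.CNSimple

universe u

/-- Recognition of simple groups with a good subgroup of even order. -/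
def HRec : Prop :=
  ∀ (M : Type u) [Group M] [Finite M], IsSimpleGroup M → (∃ K : Subgroup M, TIHyp K) →
    (∃ (F : Type) (_ : Field F) (_ : Fintype F) (n : ℕ), Fintype.card F = 2 ^ n ∧
      Nonempty (M ≃* Matrix.ProjectiveSpecialLinearGroup (Fin 2) F)) ∨ Cfsg.Lie.IsoSuzuki M

/-- Suzuki groups over isomorphic fields are isomorphic. -/
theorem sz_congr {F K : Type*} [Field F] [Field K] (f : F ≃+* K) (e : ℕ) :
    Nonempty (Cfsg.Lie.Sz F e ≃* Cfsg.Lie.Sz K e) := by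
  let φ : GL (Fin 4) F ≃* GL (Fin 4) K := Units.mapEquiv (f.mapMatrix (m := Fin 4)).toMulEquiv
  have hφ : ∀ g i j, (φ g : Matrix (Fin 4) (Fin 4) K) i j = f ((g : Matrix (Fin 4) (Fin 4) F) i j) :=
    fun _ _ _ => rfl
  have hmv : ∀ g (u : Fin 4 → F),
      Matrix.mulVec ((Units.coeHom _) (φ g)) (fun i => f (u i)) =
        fun i => f (Matrix.mulVec ((Units.coeHom _) g) u i) := fun g u => by
    funext i
    simp [Matrix.mulVec, dotProduct, hφ, map_sum, map_mul]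
  have halt : ∀ u v : Fin 4 → F,
      Cfsg.Lie.altForm4 (fun i => f (u i)) (fun i => f (v i)) = f (Cfsg.Lie.altForm4 u v) := fun u v => by
    simp [Cfsg.Lie.altForm4, map_add, map_mul]
  have hmem : ∀ g, (φ g ∈ Cfsg.Lie.Sp4 K ↔ g ∈ Cfsg.Lie.Sp4 F) := by
    intro g
    constructor
    · intro hg u v
      apply f.injective
      rw [← halt, ← halt, ← hmv, ← hmv]
      exact hg _ _
    · intro hg u v
      obtain ⟨u, rfl⟩ : ∃ u' : Fin 4 → F, (fun i => f (u' i)) = u := ⟨fun i => f.symm (u i), by simp⟩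
      obtain ⟨v, rfl⟩ : ∃ v' : Fin 4 → F, (fun i => f (v' i)) = v := ⟨fun i => f.symm (v i), by simp⟩
      rw [hmv, hmv, halt, halt, hg u v]
  have hstar : ∀ g : GL (Fin 4) F, Cfsg.Lie.star4 (φ g : Matrix (Fin 4) (Fin 4) K) =
      (Cfsg.Lie.star4 (g : Matrix (Fin 4) (Fin 4) F)).map f := fun g => by
    ext p r
    simp [Cfsg.Lie.star4, hφ, map_sub, map_mul]
  have hpow : ∀ g : GL (Fin 4) F, (φ g : Matrix (Fin 4) (Fin 4) K).map (fun x => x ^ e) =
      ((g : Matrix (Fin 4) (Fin 4) F).map (fun x => x ^ e)).map f := fun g => by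
    ext p r
    simp [hφ, map_pow]
  have himg : (φ : GL (Fin 4) F →* GL (Fin 4) K) ''
      {g | g ∈ Cfsg.Lie.Sp4 F ∧ Cfsg.Lie.star4 (g : Matrix (Fin 4) (Fin 4) F) =
        (g : Matrix (Fin 4) (Fin 4) F).map (fun x => x ^ e)} =
      {g | g ∈ Cfsg.Lie.Sp4 K ∧ Cfsg.Lie.star4 (g : Matrix (Fin 4) (Fin 4) K) =
        (g : Matrix (Fin 4) (Fin 4) K).map (fun x => x ^ e)} := by
    ext g
    constructor
    · rintro ⟨g, ⟨h1, h2⟩, rfl⟩
      exact ⟨(hmem g).2 h1, by rw [MonoidHom.coe_coe, hstar, hpow, h2]⟩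
    · rintro ⟨h1, h2⟩
      obtain ⟨g, rfl⟩ := φ.surjective g
      refine ⟨g, ⟨(hmem g).1 h1, ?_⟩, rfl⟩
      rw [hstar, hpow] at h2
      exact Matrix.map_injective f.injective h2
  exact ⟨(φ.subgroupMap (Cfsg.Lie.Sz F e)).trans (MulEquiv.subgroupCongr (by
    rw [Cfsg.Lie.Sz, Cfsg.Lie.Sz, MonoidHom.map_closure, ← himg]))⟩

section Orders

variable {F : Type*} [Field F] [Fintype F] {m : ℕ} (h : Suzuki.SzField F m)
include h

theorem card_lie : Nat.card (Cfsg.Lie.Sz F (2 ^ (m + 1))) = Nat.card (Cfsg.Sz F m) :=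
  (Nat.card_congr (Suzuki.minorEquiv h).toEquiv).symm

omit h in
theorem pow_four : 2 ^ (4 * (2 * m + 1)) - 1 =
    ((2 ^ (2 * m + 1)) ^ 2 + 1) * ((2 ^ (2 * m + 1)) ^ 2 - 1) := by
  rw [mul_comm 4, pow_mul, show (4 : ℕ) = 2 * 2 from rfl, pow_mul, ← Nat.sq_sub_sq, one_pow]

/-- Odd primes of the group divide `q⁴ - 1`. -/
theorem dvd_pow_four {r : ℕ} (hr : r.Prime) (hr2 : r ≠ 2)
    (hd : r ∣ Nat.card (Cfsg.Lie.Sz F (2 ^ (m + 1)))) : r ∣ 2 ^ (4 * (2 * m + 1)) - 1 := by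
  rw [card_lie h] at hd
  rw [pow_four]
  rcases (Suzuki.prime_dvd_card_cases h hr hd).resolve_left hr2 with e | e
  · refine (e.trans ?_).mul_left _
    have := Nat.sq_sub_sq (2 ^ (2 * m + 1)) 1
    rw [one_pow] at this
    exact this ▸ dvd_mul_left _ _
  · exact e.mul_right _

/-- A primitive prime divisor of `q⁴ - 1` divides the order. -/
theorem primitive_dvd {R : ℕ} (hR : Primitive R (4 * (2 * m + 1))) :
    R ∣ Nat.card (Cfsg.Lie.Sz F (2 ^ (m + 1))) := by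
  rw [card_lie h, Suzuki.card_Sz h]
  have h2 := hR.2.1
  rw [pow_four] at h2
  rcases hR.1.dvd_mul.1 h2 with e | e
  · exact dvd_mul_of_dvd_left (dvd_mul_of_dvd_right e _) _
  · exfalso
    rw [← pow_mul] at e
    exact hR.2.2 _ (by omega) (by omega) e

theorem no_two_edge {r : ℕ} (hr : r.Prime) (hr2 : r ≠ 2)
    (x : Cfsg.Sz F m) : orderOf x ≠ 2 * r := by
  intro hx
  have hz : orderOf (x ^ r) = 2 := by
    rw [orderOf_pow_of_dvd hr.ne_zero (hx ▸ dvd_mul_left r 2), hx, Nat.mul_div_cancel _ hr.pos]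
  obtain ⟨u, hu⟩ := Suzuki.mem_rootGroup_of_commute_involution h hz ((Commute.refl x).pow_right r).eq
  have hd := Suzuki.orderOf_dvd_root h hu
  rw [Suzuki.orderOf_conj_eq, hx] at hd
  exact hr2 ((Nat.prime_dvd_prime_iff_eq hr Nat.prime_two).1
    (hr.dvd_of_dvd_pow (hr.dvd_of_dvd_pow (dvd_trans (dvd_mul_left r 2) hd))))

omit h in
theorem torus_dvd {k : ℕ} (hk : k ∈ Suzuki.torusOrders m) :
    k ∣ 2 ^ (2 * m + 1) - 1 ∨ k ∣ (2 ^ (2 * m + 1)) ^ 2 + 1 := by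
  have hs : (2 ^ (m + 1)) ^ 2 = 2 * 2 ^ (2 * m + 1) := by
    rw [← pow_mul, ← pow_succ']; congr 1; ring
  have hle : 2 ^ (m + 1) ≤ 2 ^ (2 * m + 1) := Nat.pow_le_pow_right (by norm_num) (by omega)
  simp only [Suzuki.torusOrders, Set.mem_insert_iff, Set.mem_singleton_iff] at hk
  obtain ⟨d, hd⟩ := Nat.exists_eq_add_of_le hle
  generalize 2 ^ (2 * m + 1) = q at hs hd hk ⊢
  generalize 2 ^ (m + 1) = R at hs hd hk
  subst hd
  rcases hk with rfl | rfl | rfl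
  · exact Or.inl dvd_rfl
  · exact Or.inr ⟨d + 1, by zify at hs ⊢; nlinarith⟩
  · refine Or.inr ⟨R + d + R + 1, ?_⟩
    rw [show R + d - R + 1 = d + 1 by omega]
    zify at hs ⊢
    nlinarith

theorem no_rs_edge {r s : ℕ} (hr : r.Prime) (hs : s.Prime) (hrd : r ∣ 2 ^ (2 * m + 1) - 1)
    (hsd : s ∣ (2 ^ (2 * m + 1)) ^ 2 + 1) (x : Cfsg.Sz F m) : orderOf x ≠ r * s := by
  intro hx
  obtain ⟨hs2, -, hsq, hmod⟩ := Suzuki.prime_q_sq_facts hs hsd
  have hsq1 : ¬ s ∣ 2 ^ (2 * m + 1) - 1 := fun e => by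
    refine hmod 1 one_pos (by norm_num) ?_
    rw [pow_one]
    exact ((Nat.modEq_iff_dvd' Nat.one_le_two_pow).2 e).symm
  have hx1 : x ≠ 1 := fun e => by
    rw [e, orderOf_one] at hx
    exact hs.ne_one (Nat.eq_one_of_mul_eq_one_left hx.symm)
  rcases Suzuki.centralizer_cases h hx1 with ⟨u, hu⟩ | ⟨-, hk⟩
  · have hd := Suzuki.orderOf_dvd_root h hu
    rw [Suzuki.orderOf_conj_eq, hx] at hd
    exact hs2 ((Nat.prime_dvd_prime_iff_eq hs Nat.prime_two).1
      (hs.dvd_of_dvd_pow (hs.dvd_of_dvd_pow (dvd_trans (dvd_mul_left s r) hd))))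
  · have hd : r * s ∣ Nat.card (Subgroup.centralizer ({x} : Set (Cfsg.Sz F m))) :=
      hx ▸ Subgroup.orderOf_dvd_natCard _ (Subgroup.mem_centralizer_singleton_iff.2 rfl)
    rcases torus_dvd hk with e | e
    · exact hsq1 ((dvd_trans (dvd_mul_left s r) hd).trans e)
    · have hr' := (dvd_trans (dvd_mul_right r s) hd).trans e
      obtain ⟨-, -, -, hmod'⟩ := Suzuki.prime_q_sq_facts hr hr'
      refine hmod' 1 one_pos (by norm_num) ?_
      rw [pow_one]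
      exact ((Nat.modEq_iff_dvd' Nat.one_le_two_pow).2 hrd).symm

end Orders

theorem key (hs : HSimple.{u}) (hrec : HRec.{u}) {F : Type*} [Field F] [Fintype F] (m : ℕ) (hm : 1 ≤ m)
    (hF : Fintype.card F = 2 ^ (2 * m + 1)) {G : Type u} [Group G] [Finite G]
    (h : ((∀ r : ℕ, r.Prime → (r ∣ Nat.card ↥(Cfsg.Lie.Sz F (2 ^ (m + 1))) ↔ r ∣ Nat.card G)) ∧
      (∀ r s : ℕ, r.Prime → s.Prime → r ≠ s →
        ((∃ x : ↥(Cfsg.Lie.Sz F (2 ^ (m + 1))), orderOf x = r * s) ↔ (∃ y : G, orderOf y = r * s))))) :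
    Nonempty (G ⧸ Cfsg.pCore 2 G ≃* ↥(Cfsg.Lie.Sz F (2 ^ (m + 1)))) := by
  haveI : Fact (Nat.Prime 2) := ⟨Nat.prime_two⟩
  have hS : Suzuki.SzField F m := ⟨hm, hF⟩
  have hedge : ∀ a b : ℕ, a.Prime → b.Prime → a ≠ b → (∀ x : Cfsg.Sz F m, orderOf x ≠ a * b) →
      ∀ g : G, orderOf g ≠ a * b := fun a b ha hb hab hno g hg => by
    obtain ⟨x, hx⟩ := (h.2 a b ha hb hab).2 ⟨g, hg⟩
    refine hno ((Suzuki.minorEquiv hS).symm x) ?_
    rwa [MulEquiv.orderOf_eq]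
  have hno2 : ∀ r : ℕ, r.Prime → r ≠ 2 → ∀ g : G, orderOf g ≠ 2 * r := fun r hr hr2 =>
    hedge 2 r Nat.prime_two hr (Ne.symm hr2) (no_two_edge hS hr hr2)
  have hc : CIT G := cit_of_no_edge hno2
  have hq8 : 8 ≤ 2 ^ (2 * m + 1) :=
    le_of_eq_of_le (by norm_num : 8 = 2 ^ 3) (Nat.pow_le_pow_right (by norm_num) (by omega))
  have hev : 2 ∣ 2 ^ (2 * m + 1) := dvd_pow_self 2 (by omega)
  obtain ⟨r, hr, hrd⟩ := Nat.exists_prime_and_dvd (show 2 ^ (2 * m + 1) - 1 ≠ 1 by omega)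
  have hq1 : 1 < (2 ^ (2 * m + 1)) ^ 2 := Nat.one_lt_pow (by norm_num) (by omega)
  obtain ⟨s, hsp, hsd⟩ := Nat.exists_prime_and_dvd (show (2 ^ (2 * m + 1)) ^ 2 + 1 ≠ 1 by omega)
  obtain ⟨hs2, -, -, hsmod⟩ := Suzuki.prime_q_sq_facts hsp hsd
  have hr2 : r ≠ 2 := by rintro rfl; omega
  have hrs : r ≠ s := by
    rintro rfl
    refine hsmod 1 one_pos (by norm_num) ?_
    rw [pow_one]
    exact ((Nat.modEq_iff_dvd' Nat.one_le_two_pow).2 hrd).symm
  have hnrs : ∀ g : G, orderOf g ≠ r * s := hedge r s hr hsp hrs (no_rs_edge hS hr hsp hrd hsd)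
  have hin : ∀ a : ℕ, a.Prime → (a ∣ (2 ^ (2 * m + 1)) ^ 2 ∨ a ∣ 2 ^ (2 * m + 1) - 1 ∨
      a ∣ (2 ^ (2 * m + 1)) ^ 2 + 1) → a ∣ Nat.card G := fun a ha hd => by
    refine (h.1 a ha).1 ?_
    rw [card_lie hS, Suzuki.card_Sz hS, ha.dvd_mul, ha.dvd_mul]
    tauto
  have h2G : 2 ∣ Nat.card G := hin 2 Nat.prime_two (Or.inl (dvd_pow hev two_ne_zero))
  have hrG : r ∣ Nat.card G := hin r hr (Or.inr (Or.inl hrd))
  have hsG : s ∣ Nat.card G := hin s hsp (Or.inr (Or.inr hsd))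
  have hns : ¬ Group.IsSolvable G := by
    intro hsol
    classical
    refine (Cfsg.Agent.S3633.result ({2, r, s} : Finset ℕ) ?_ ⟨?_, ?_⟩ (⊥ : Subgroup G)
      inferInstance).2 hsol
    · rw [Finset.card_insert_of_notMem (by simp [Ne.symm hr2, Ne.symm hs2]),
        Finset.card_insert_of_notMem (by simp [hrs]), Finset.card_singleton]
    · simp [Nat.prime_two, h2G, hr, hrG, hsp, hsG]
    · intro a ha b hb hab
      simp only [Finset.mem_insert, Finset.mem_singleton] at ha hb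
      rintro ⟨g, hg⟩
      rcases ha with rfl | rfl | rfl <;> rcases hb with rfl | rfl | rfl
      all_goals first
        | exact hab rfl
        | exact hno2 _ hr hr2 g hg
        | exact hno2 _ hsp hs2 g hg
        | exact hno2 _ hr hr2 g (hg.trans (Nat.mul_comm _ _))
        | exact hno2 _ hsp hs2 g (hg.trans (Nat.mul_comm _ _))
        | exact hnrs g hg
        | exact hnrs g (hg.trans (Nat.mul_comm _ _))
  have h3G : ¬ 3 ∣ Nat.card G := fun e =>
    Suzuki.three_not_dvd hS (card_lie hS ▸ (h.1 3 Nat.prime_three).2 e)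
  obtain ⟨M, hMn, hM, hC, hcases⟩ := cases hs hc hns
  haveI := hMn
  haveI := hM
  have hMG : Nat.card M ∣ Nat.card G :=
    (Subgroup.card_subgroup_dvd_card M).trans (Subgroup.card_quotient_dvd_card _)
  have h3M : ¬ 3 ∣ Nat.card M := fun e => h3G (e.trans hMG)
  have hpsl : ∀ (F' : Type) (_ : Field F') (_ : Fintype F'),
      Nonempty (M ≃* Matrix.ProjectiveSpecialLinearGroup (Fin 2) F') → False := by
    intro F' i1 i2 he
    obtain ⟨e⟩ := he
    letI := i1; letI := i2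
    refine h3M ?_
    rw [Nat.card_congr e.toEquiv, odd_dvd_psl Nat.prime_three (by norm_num)]
    have := Fintype.one_lt_card (α := F')
    omega
  have hl : ¬ IsL34 M := by
    rintro ⟨F', i1, i2, hF', ⟨e⟩⟩
    letI := i1; letI := i2
    refine h3M ?_
    classical
    haveI : Fintype (Projectivization F' (Fin 3 → F')) := Fintype.ofFinite _
    rw [Nat.card_congr e.toEquiv, PlanePSL.card_psl hF']
    norm_num
  rcases hcases with ⟨htop, -⟩ | hodd | hl'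
  swap
  · obtain ⟨F', i1, i2, -, he⟩ := hodd
    exact (hpsl F' i1 i2 he).elim
  swap
  · exact (hl hl').elim
  have hX : IsO2 (Cfsg.pCore 2 G) := isO2_pCore
  have hna : ∃ a b : M, a * b ≠ b * a := by
    by_contra hcon
    push Not at hcon
    haveI : Group.IsSolvable M := Group.isSolvable_of_comm hcon
    haveI : Group.IsSolvable (G ⧸ Cfsg.pCore 2 G) :=
      Group.isSolvable_of_surjective (f := M.subtype) fun y => ⟨⟨y, htop ▸ Subgroup.mem_top y⟩, rfl⟩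
    haveI : Group.IsNilpotent (Cfsg.pCore 2 G) := hX.isPGroup.isNilpotent
    exact hns ((Group.isSolvable_iff_subgroup_quotient (Cfsg.pCore 2 G)).2 ⟨inferInstance, inferInstance⟩)
  have hti : ∃ K : Subgroup M, TIHyp K := by
    rcases hs M hM ((hX.quotient_cit hc).subgroup M) hna with h | ⟨F', i1, i2, -, he⟩ | h
    · exact h
    · exact (hpsl F' i1 i2 he).elim
    · exact (hl h).elim
  rcases hrec M hM hti with ⟨F', i1, i2, n, -, he⟩ | ⟨F', i1, i2, m', hm', hF', ⟨e⟩⟩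
  · exact (hpsl F' i1 i2 he).elim
  letI := i1; letI := i2
  have hS' : Suzuki.SzField F' m' := ⟨hm', hF'⟩
  have hcM : Nat.card M = Nat.card (Cfsg.Lie.Sz F' (2 ^ (m' + 1))) := Nat.card_congr e.toEquiv
  have hcQ : Nat.card (G ⧸ Cfsg.pCore 2 G) = Nat.card M := by rw [htop, Subgroup.card_top]
  obtain ⟨R, hR⟩ := exists_primitive (n := 4 * (2 * m + 1)) (by omega) (by omega)
  obtain ⟨R', hR'⟩ := exists_primitive (n := 4 * (2 * m' + 1)) (by omega) (by omega)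
  have hR2 := hR.ne_two (by omega)
  have hR2' := hR'.ne_two (by omega)
  have h1 : 4 * (2 * m + 1) ∣ 4 * (2 * m' + 1) := hR.dvd_of_dvd (by omega) (dvd_pow_four hS' hR.1 hR2
    (hcM ▸ hcQ ▸ dvd_quotient hR.1 hR2 ((h.1 R hR.1).1 (primitive_dvd hS hR))))
  have h2 : 4 * (2 * m' + 1) ∣ 4 * (2 * m + 1) := hR'.dvd_of_dvd (by omega) (dvd_pow_four hS hR'.1 hR2'
    ((h.1 R' hR'.1).2 (((hcM ▸ primitive_dvd hS' hR') : R' ∣ Nat.card M).trans hMG)))
  have hmm : m' = m := by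
    have := Nat.dvd_antisymm h1 h2
    omega
  subst hmm
  obtain ⟨e'⟩ := sz_congr (FiniteField.ringEquivOfCardEq (K := F') (K' := F) (hF'.trans hF.symm))
    (2 ^ (m' + 1))
  exact ⟨Subgroup.topEquiv.symm.trans ((MulEquiv.subgroupCongr htop.symm).trans (e.trans e'))⟩

end Cfsg.Agent.CITStruct.GraphSz
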