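import Cfsg.Agent.Lib.CITStruct.Socle
import Cfsg.Agent.Lib.GW.FieldPart
import Cfsg.Agent.Lib.Classical.ProjLine
import Cfsg.Agent.Lib.Steiner.PlanePSL

/-!
# Insoluble groups with `2`-group centralisers of involutions: cases and primes
-/

set_option autoImplicit false
set_option linter.style.haveILetI false
set_option linter.unusedSectionVars false

namespace Cfsg.Agent.CITStruct

open Cfsg.Agent.Invol Cfsg.Agent.CNSimple

universe u

variable {G : Type u} [Group G] [Finite G]

/-- The possible socles of the quotient by the largest normal `2`-subgroup. -/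
theorem cases (hs : HSimple.{u}) (hc : CIT G) (hns : ¬ Group.IsSolvable G) :
    ∃ (M : Subgroup (G ⧸ Cfsg.pCore 2 G)) (_ : M.Normal), IsSimpleGroup M ∧
      Subgroup.centralizer (M : Set (G ⧸ Cfsg.pCore 2 G)) = ⊥ ∧
      ((M = ⊤ ∧ IsTwoTI M) ∨ IsOddPSL M ∨ IsL34 M) := by
  haveI : Fact (Nat.Prime 2) := ⟨Nat.prime_two⟩
  have hX : IsO2 (Cfsg.pCore 2 G) := isO2_pCore
  have hcQ : CIT (G ⧸ Cfsg.pCore 2 G) := hX.quotient_cit hc
  have hnsQ : ¬ Group.IsSolvable (G ⧸ Cfsg.pCore 2 G) := fun h => by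
    haveI := h
    haveI : Group.IsNilpotent (Cfsg.pCore 2 G) := hX.isPGroup.isNilpotent
    exact hns ((Group.isSolvable_iff_subgroup_quotient (Cfsg.pCore 2 G)).2 ⟨inferInstance, h⟩)
  obtain ⟨M, hMn, hM, hnc, hC⟩ := exists_socle hcQ hX.quotient_o2 hnsQ
  haveI := hMn; haveI := hM
  refine ⟨M, hMn, hM, hC, ?_⟩
  rcases hs M hM (hcQ.subgroup M) hnc with ⟨K, hK⟩ | h | h
  · exact Or.inl ⟨ti_top hcQ hK, hK.main⟩
  · exact Or.inr (Or.inl h)
  · exact Or.inr (Or.inr h)

/-- Odd primes of `G` divide the order of the quotient. -/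
theorem dvd_quotient {r : ℕ} (hr : r.Prime) (hr2 : r ≠ 2) (h : r ∣ Nat.card G) :
    r ∣ Nat.card (G ⧸ Cfsg.pCore 2 G) := by
  haveI : Fact (Nat.Prime 2) := ⟨Nat.prime_two⟩
  obtain ⟨k, hk⟩ := IsPGroup.iff_card.1 (isO2_pCore (G := G)).isPGroup
  rw [Subgroup.card_eq_card_quotient_mul_card_subgroup (Cfsg.pCore 2 G), hk] at h
  exact (hr.dvd_mul.1 h).resolve_right fun h2 =>
    hr2 ((Nat.prime_dvd_prime_iff_eq hr Nat.prime_two).1 (hr.dvd_of_dvd_pow h2))

/-- Orders of elements of a quotient divide orders of elements. -/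
theorem exists_order_multiple {H : Type*} [Group H] (N : Subgroup H) [N.Normal] (y : H ⧸ N) :
    ∃ g : H, orderOf y ∣ orderOf g := by
  obtain ⟨g, rfl⟩ := QuotientGroup.mk_surjective y
  exact ⟨g, orderOf_map_dvd (QuotientGroup.mk' N) g⟩

section PSL

variable {F : Type*} [Field F] [Fintype F]

theorem card_psl_eq : Nat.gcd 2 (Fintype.card F - 1) *
    Nat.card (Matrix.ProjectiveSpecialLinearGroup (Fin 2) F) =
      Fintype.card F * (Fintype.card F - 1) * (Fintype.card F + 1) := by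
  have h := ProjLine.two_mul_card_psl (F := F)
  rw [Nat.card_eq_fintype_card (α := F)] at h
  have h1 : 0 < Fintype.card F - 1 := by have := Fintype.one_lt_card (α := F); omega
  apply Nat.eq_of_mul_eq_mul_right h1
  rw [h]; ring

theorem odd_dvd_psl {r : ℕ} (hr : r.Prime) (hr2 : r ≠ 2) :
    r ∣ Nat.card (Matrix.ProjectiveSpecialLinearGroup (Fin 2) F) ↔
      r ∣ Fintype.card F ∨ r ∣ Fintype.card F - 1 ∨ r ∣ Fintype.card F + 1 := by
  have h := card_psl_eq (F := F)
  have hg : ¬ r ∣ Nat.gcd 2 (Fintype.card F - 1) := fun e =>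
    hr2 ((Nat.prime_dvd_prime_iff_eq hr Nat.prime_two).1 (e.trans (Nat.gcd_dvd_left _ _)))
  constructor
  · intro e
    have e' : r ∣ Fintype.card F * (Fintype.card F - 1) * (Fintype.card F + 1) := h ▸ dvd_mul_of_dvd_right e _
    rw [hr.dvd_mul, hr.dvd_mul] at e'
    tauto
  · intro e
    have e' : r ∣ Fintype.card F * (Fintype.card F - 1) * (Fintype.card F + 1) := by
      rw [hr.dvd_mul, hr.dvd_mul]; tauto
    rw [← h] at e'
    exact (hr.dvd_mul.1 e').resolve_left hg

end PSL

variable {Q : Type u} [Group Q] [Finite Q] (M : Subgroup Q) [M.Normal]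

theorem conjNormal_injective (hC : Subgroup.centralizer (M : Set Q) = ⊥) :
    Function.Injective (MulAut.conjNormal : Q →* MulAut M) := by
  refine (injective_iff_map_eq_one _).2 fun q hq => ?_
  have : q ∈ Subgroup.centralizer (M : Set Q) := Subgroup.mem_centralizer_iff.2 fun a ha => by
    have e := congrArg Subtype.val (DFunLike.congr_fun hq ⟨a, ha⟩)
    rw [MulAut.conjNormal_apply, MulAut.one_apply] at e
    exact (mul_inv_eq_iff_eq_mul.1 e).symm
  rwa [hC, Subgroup.mem_bot] at this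

/-- Primes of a group with socle `PSL(2, F)`. -/
theorem prime_psl (hC : Subgroup.centralizer (M : Set Q) = ⊥) {F : Type} [Field F] [Fintype F]
    (e : M ≃* Matrix.ProjectiveSpecialLinearGroup (Fin 2) F) {p f : ℕ} [Fact p.Prime]
    (hF : Fintype.card F = p ^ f) {r : ℕ} (hr : r.Prime) (hr2 : r ≠ 2) (h : r ∣ Nat.card Q) :
    r ∣ Nat.card M ∨ r ∣ f := by
  haveI := Fact.mk hr
  obtain ⟨x, hx⟩ := exists_prime_orderOf_dvd_card' r h
  set φ : Q →* MulAut (Matrix.ProjectiveSpecialLinearGroup (Fin 2) F) :=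
    (MulAut.congr e).toMonoidHom.comp MulAut.conjNormal with hφ
  have hinj : Function.Injective φ := (MulAut.congr e).injective.comp (conjNormal_injective M hC)
  have ho : orderOf (φ x) = r := (orderOf_injective φ hinj x).trans hx
  by_cases h1 : GW.fldHom (φ x) = 1
  · left
    have hmem := (GW.mem_inndiag_iff_fld _).2 h1
    rw [← AutPSL.range_conjHom] at hmem
    have hd : r ∣ Nat.card (GL (Fin 2) F) :=
      ho ▸ ((Subgroup.orderOf_dvd_natCard _ hmem).trans (Subgroup.card_range_dvd _))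
    rw [ClassicalGL2.card_gl2, Nat.card_eq_fintype_card (α := F), hr.dvd_mul, hr.dvd_mul] at hd
    rw [Nat.card_congr e.toEquiv, odd_dvd_psl hr hr2]
    rcases hd with hd | hd | hd
    · exact Or.inr (Or.inr hd)
    · exact Or.inl hd
    · exact Or.inr (Or.inl (hr.dvd_of_dvd_pow hd))
  · right
    have hd : orderOf (GW.fldHom (φ x)) = r := by
      refine ((Nat.dvd_prime hr).1 (ho ▸ orderOf_map_dvd _ _)).resolve_left ?_
      rwa [orderOf_eq_one_iff]
    exact hd ▸ AutPSL.orderOf_dvd_exponent p f hF _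

/-- Primes of a group with socle `PSL(3, 4)`. -/
theorem prime_l34 (hc : CIT Q) (hM : IsL34 M) {r : ℕ} (hr : r.Prime) (hr2 : r ≠ 2)
    (h : r ∣ Nat.card Q) : r ∣ Nat.card M := by
  classical
  obtain ⟨F, i1, i2, hF, ⟨e⟩⟩ := hM
  haveI : Fintype (Projectivization F (Fin 3 → F)) := Fintype.ofFinite _
  have hcard : Nat.card M = 20160 := (Nat.card_congr e.toEquiv).trans (PlanePSL.card_psl hF)
  by_contra hrM
  haveI := Fact.mk hr
  haveI : Fact (Nat.Prime 2) := ⟨Nat.prime_two⟩
  have hrQM : r ∣ Nat.card (Q ⧸ M) := by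
    rw [Subgroup.card_eq_card_quotient_mul_card_subgroup M] at h
    exact (hr.dvd_mul.1 h).resolve_right hrM
  obtain ⟨T⟩ := (inferInstance : Nonempty (Sylow 2 M))
  set T' : Subgroup Q := (T : Subgroup M).map M.subtype with hT'
  set N : Subgroup Q := Subgroup.normalizer (T' : Set Q) with hN
  have hsup : N ⊔ M = ⊤ := T.normalizer_sup_eq_top
  have hsurj : Function.Surjective ((QuotientGroup.mk' M).comp N.subtype) := by
    intro q
    obtain ⟨g, rfl⟩ := QuotientGroup.mk_surjective q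
    obtain ⟨a, ha, b, hb, rfl⟩ := Subgroup.mem_sup_of_normal_right.1 (hsup ▸ Subgroup.mem_top g :
      g ∈ N ⊔ M)
    exact ⟨⟨a, ha⟩, by
      show ((a : Q) : Q ⧸ M) = ((a * b : Q) : Q ⧸ M)
      rw [QuotientGroup.mk_mul, (QuotientGroup.eq_one_iff b).2 hb, mul_one]⟩
  have hrN : r ∣ Nat.card N := hrQM.trans (Subgroup.card_dvd_of_surjective _ hsurj)
  obtain ⟨x, hx⟩ := exists_prime_orderOf_dvd_card' r hrN
  have hxo : orderOf (x : Q) = r := (Subgroup.orderOf_coe x).trans hx
  have hT : Nat.card T' = 64 := by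
    rw [hT', Subgroup.card_map_of_injective M.subtype_injective]
    show Nat.card (T : Subgroup M) = 64
    rw [T.card_eq_multiplicity, hcard, Nat.factorization_def _ Nat.prime_two]
    have h1 : padicValNat 2 20160 = 6 := by
      rw [show (20160 : ℕ) = 2 ^ 6 * 315 by norm_num, padicValNat.mul (by norm_num) (by norm_num),
        padicValNat.prime_pow, padicValNat.eq_zero_of_not_dvd (by norm_num : ¬ 2 ∣ 315)]
    rw [h1]; norm_num
  let X : Subgroup N := Subgroup.zpowers x
  letI : MulAction X T' :=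
    { smul := fun y t => ⟨((y : N) : Q) * t * ((y : N) : Q)⁻¹,
        (Subgroup.mem_normalizer_iff.1 (y : N).2 t).1 t.2⟩
      one_smul := fun t => Subtype.ext (by
        show (((1 : X) : N) : Q) * (t : Q) * (((1 : X) : N) : Q)⁻¹ = t
        simp)
      mul_smul := fun a b t => Subtype.ext (by
        show (((a * b : X) : N) : Q) * (t : Q) * (((a * b : X) : N) : Q)⁻¹ =
          ((a : N) : Q) * (((b : N) : Q) * t * ((b : N) : Q)⁻¹) * ((a : N) : Q)⁻¹
        push_cast
        group) }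
  have hXp : IsPGroup r X := IsPGroup.of_card (n := 1) (by rw [Nat.card_zpowers, hx, pow_one])
  have hmod := hXp.card_modEq_card_fixedPoints T'
  have hfix : MulAction.fixedPoints X T' = {1} := by
    ext t
    refine ⟨fun ht => ?_, fun ht y => ?_⟩
    · have e : (x : Q) * t * (x : Q)⁻¹ = t :=
        congrArg Subtype.val (ht ⟨x, Subgroup.mem_zpowers x⟩)
      by_contra hne
      have hT'p : IsPGroup 2 T' := T.isPGroup'.map _
      obtain ⟨k, hk⟩ := order_two_pow hT'p t.2
      have := hc.odd_comm (fun e => hne (Subtype.ext e)) hk (hxo ▸ hr.odd_of_ne_two hr2)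
        (mul_inv_eq_iff_eq_mul.1 e)
      rw [this, orderOf_one] at hxo
      exact hr.ne_one hxo.symm
    · rw [Set.mem_singleton_iff] at ht
      subst ht
      refine Subtype.ext ?_
      show ((y : N) : Q) * ((1 : T') : Q) * ((y : N) : Q)⁻¹ = ((1 : T') : Q)
      simp
  rw [hT, hfix, Nat.card_coe_set_eq, Set.ncard_singleton] at hmod
  have h63 : r ∣ 63 := (Nat.modEq_iff_dvd' (by norm_num)).1 hmod.symm
  have hr63 : r = 3 ∨ r = 7 := by
    have hle := Nat.le_of_dvd (by norm_num) h63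
    rw [show 63 = 3 ^ 2 * 7 by norm_num, hr.dvd_mul] at h63
    rcases h63 with h | h
    · exact Or.inl ((Nat.prime_dvd_prime_iff_eq hr Nat.prime_three).1 (hr.dvd_of_dvd_pow h))
    · exact Or.inr ((Nat.prime_dvd_prime_iff_eq hr (by norm_num)).1 h)
  apply hrM
  rw [hcard]
  rcases hr63 with rfl | rfl <;> norm_num

/-- An element of odd order centralising an involution gives an element of order twice an odd
prime. -/
theorem cit_of_no_edge (h : ∀ r : ℕ, r.Prime → r ≠ 2 → ∀ g : G, orderOf g ≠ 2 * r) : CIT G := by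
  haveI : Fact (Nat.Prime 2) := ⟨Nat.prime_two⟩
  intro t ht
  refine IsPGroup.of_card (n := (Nat.card (Ct t)).primeFactorsList.length)
    (Nat.eq_prime_pow_of_unique_prime_dvd Nat.card_pos.ne' fun {r} hr hrd => ?_)
  by_contra hr2
  haveI := Fact.mk hr
  obtain ⟨⟨c, hc⟩, hco⟩ := exists_prime_orderOf_dvd_card' r hrd
  rw [Subgroup.orderOf_mk] at hco
  refine h r hr hr2 (t * c) ?_
  rw [(show Commute t c from (mem_Ct.1 hc).symm).orderOf_mul_eq_mul_orderOf_of_coprime
    (by rw [ht, hco]; exact (Nat.coprime_primes Nat.prime_two hr).2 (Ne.symm hr2)), ht, hco]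

/-- Suzuki orders. -/
theorem suzuki_card (h : Cfsg.IsSuzuki G) : ¬ 3 ∣ Nat.card G ∧ 5 ∣ Nat.card G := by
  obtain ⟨-, m, -, h⟩ := h
  rw [h]
  set q := 2 ^ (2 * m + 1) with hq
  have hq3 : q % 3 = 2 := by rw [hq, pow_succ, pow_mul, Nat.mul_mod, Nat.pow_mod]; norm_num
  have hq5 : q ^ 2 % 5 = 4 := by
    rw [hq, ← pow_mul, show (2 * m + 1) * 2 = 4 * m + 2 by ring, pow_add, pow_mul, Nat.mul_mod,
      Nat.pow_mod]
    norm_num
  clear_value q
  clear hq
  constructor
  · intro h3
    rcases (Nat.prime_three.dvd_mul).1 h3 with e | e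
    · rcases (Nat.prime_three.dvd_mul).1 e with e | e
      · have := Nat.prime_three.dvd_of_dvd_pow e
        omega
      · have h2 : q ^ 2 % 3 = 1 := by rw [Nat.pow_mod, hq3]
        rw [Nat.dvd_iff_mod_eq_zero, Nat.add_mod, h2] at e
        norm_num at e
    · clear h3 h
      obtain ⟨c, hc⟩ := e
      omega
  · refine dvd_mul_of_dvd_left (dvd_mul_of_dvd_right (Nat.dvd_of_mod_eq_zero ?_) _) _
    rw [Nat.add_mod, hq5]

end Cfsg.Agent.CITStruct
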