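import Cfsg.Statements.S3700
import Cfsg.Agent.Lib.CITStruct.Primes
import Cfsg.Agent.Lib.CITStruct.Arith
import Cfsg.Agent.Lib.Recog.SL2Orders
import Cfsg.Agent.Lib.Small.DegreePrimeSuccData
import Cfsg.Agent.S3633

/-!
# Consequences for insoluble groups with 2-group centralisers of involutions
-/

set_option autoImplicit false
set_option linter.style.haveILetI false

namespace Cfsg.Agent.CITStruct.GraphPSL

open Cfsg.Agent.CITStruct Cfsg.Agent.CNSimple

universe u

theorem key (hs : HSimple.{u}) {F : Type*} [Field F] [Fintype F] (m : ℕ) (hm : 4 ≤ m)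
    (hF : Fintype.card F = 2 ^ m) {G : Type u} [Group G] [Finite G]
    (h : ((∀ r : ℕ, r.Prime → (r ∣ Nat.card (Matrix.ProjectiveSpecialLinearGroup (Fin 2) F) ↔ r ∣ Nat.card G)) ∧
      (∀ r s : ℕ, r.Prime → s.Prime → r ≠ s → ((∃ x : (Matrix.ProjectiveSpecialLinearGroup (Fin 2) F), orderOf x = r * s) ↔ (∃ y : G, orderOf y = r * s))))) :
    Nonempty (G ⧸ Cfsg.pCore 2 G ≃* Matrix.ProjectiveSpecialLinearGroup (Fin 2) F) := by
  haveI : Fact (Nat.Prime 2) := ⟨Nat.prime_two⟩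
  haveI : CharP F 2 := by
    obtain ⟨p, hp⟩ := CharP.exists F
    haveI := hp
    haveI : Fact p.Prime := ⟨CharP.char_is_prime F p⟩
    obtain ⟨n, hpn, hn⟩ := FiniteField.card F p
    have hd : p ∣ 2 ^ m := by rw [← hF, hn]; exact dvd_pow_self p n.ne_zero
    have h2 : p = 2 := (Nat.prime_dvd_prime_iff_eq hpn Nat.prime_two).1 (hpn.dvd_of_dvd_pow hd)
    exact h2 ▸ hp
  have hq : 2 ^ 4 ≤ 2 ^ m := Nat.pow_le_pow_right (by norm_num) hm
  have he : 2 ^ m % 2 = 0 := by
    rw [show m = m - 1 + 1 by omega, pow_succ]; omega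
  have hpred : SL2Orders.halfPred (2 ^ m) = 2 ^ m - 1 := by
    have hg : (2 ^ m - 1).gcd 2 = 1 := Nat.coprime_two_right.2 (Nat.odd_iff.2 (by omega))
    rw [SL2Orders.halfPred, hg, Nat.div_one]
  have hsucc : SL2Orders.halfSucc (2 ^ m) = 2 ^ m + 1 := by
    have hg : (2 ^ m + 1).gcd 2 = 1 := Nat.coprime_two_right.2 (Nat.odd_iff.2 (by omega))
    rw [SL2Orders.halfSucc, hg, Nat.div_one]
  have hord : ∀ g : Matrix.ProjectiveSpecialLinearGroup (Fin 2) F,
      orderOf g ∣ 2 ∨ orderOf g ∣ 2 ^ m - 1 ∨ orderOf g ∣ 2 ^ m + 1 := by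
    intro g
    rcases SL2Orders.psl_cases 2 g with e | e | e
    · exact Or.inl (orderOf_dvd_of_pow_eq_one e)
    · rw [hF, hpred] at e; exact Or.inr (Or.inl (orderOf_dvd_of_pow_eq_one e))
    · rw [hF, hsucc] at e; exact Or.inr (Or.inr (orderOf_dvd_of_pow_eq_one e))
  have hprod : 2 ^ (2 * m) - 1 = (2 ^ m + 1) * (2 ^ m - 1) := by
    rw [pow_mul', ← Nat.sq_sub_sq, one_pow]
  have hpiP : ∀ r : ℕ, r.Prime → r ≠ 2 →
      (r ∣ Nat.card (Matrix.ProjectiveSpecialLinearGroup (Fin 2) F) ↔ r ∣ 2 ^ (2 * m) - 1) := by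
    intro r hr hr2
    rw [odd_dvd_psl hr hr2, hF, hprod, hr.dvd_mul]
    constructor
    · rintro (e | e | e)
      · exact absurd ((Nat.prime_dvd_prime_iff_eq hr Nat.prime_two).1 (hr.dvd_of_dvd_pow e)) hr2
      · exact Or.inr e
      · exact Or.inl e
    · rintro (e | e)
      · exact Or.inr (Or.inr e)
      · exact Or.inr (Or.inl e)
  have hno2 : ∀ r : ℕ, r.Prime → r ≠ 2 → ∀ g : G, orderOf g ≠ 2 * r := by
    intro r hr hr2 g hg
    obtain ⟨x, hx⟩ := (h.2 2 r Nat.prime_two hr (Ne.symm hr2)).2 ⟨g, hg⟩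
    rcases hord x with e | e | e <;> rw [hx] at e
    · have := Nat.le_of_dvd two_pos e
      have := hr.two_le
      omega
    · have := (Dvd.intro r rfl : 2 ∣ 2 * r).trans e
      omega
    · have := (Dvd.intro r rfl : 2 ∣ 2 * r).trans e
      omega
  have hc : CIT G := cit_of_no_edge hno2
  obtain ⟨r, hr, hrd⟩ := Nat.exists_prime_and_dvd (show 2 ^ m - 1 ≠ 1 by omega)
  obtain ⟨s, hs', hsd⟩ := Nat.exists_prime_and_dvd (show 2 ^ m + 1 ≠ 1 by omega)
  have hr2 : r ≠ 2 := by rintro rfl; omega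
  have hs2 : s ≠ 2 := by rintro rfl; omega
  have hcop : ∀ a : ℕ, a.Prime → a ∣ 2 ^ m - 1 → a ∣ 2 ^ m + 1 → False := fun a ha h1 h2 => by
    have h3 := Nat.dvd_sub h2 h1
    rw [show 2 ^ m + 1 - (2 ^ m - 1) = 2 by omega] at h3
    have h4 : a = 2 := (Nat.prime_dvd_prime_iff_eq ha Nat.prime_two).1 h3
    subst h4
    omega
  have hrs : r ≠ s := fun e => hcop r hr hrd (e ▸ hsd)
  have hnrs : ∀ g : G, orderOf g ≠ r * s := by
    intro g hg
    obtain ⟨x, hx⟩ := (h.2 r s hr hs' hrs).2 ⟨g, hg⟩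
    rcases hord x with e | e | e <;> rw [hx] at e
    · have h4 : 3 ≤ r := by have := hr.two_le; omega
      have := Nat.le_of_dvd two_pos ((Dvd.intro s rfl : r ∣ r * s).trans e)
      omega
    · exact hcop s hs' ((Dvd.intro_left r rfl : s ∣ r * s).trans e) hsd
    · exact hcop r hr hrd ((Dvd.intro s rfl : r ∣ r * s).trans e)
  have hrG : r ∣ Nat.card G := (h.1 r hr).1 ((hpiP r hr hr2).2 (hprod ▸ hrd.mul_left _))
  have hsG : s ∣ Nat.card G := (h.1 s hs').1 ((hpiP s hs' hs2).2 (hprod ▸ hsd.mul_right _))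
  have h2G : 2 ∣ Nat.card G := by
    obtain ⟨x, hx⟩ := SL2Orders.exists_orderOf_char (F := F) 2
    have hd := orderOf_dvd_natCard x
    rw [hx] at hd
    exact (h.1 2 Nat.prime_two).1 hd
  have hns : ¬ Group.IsSolvable G := by
    intro hsol
    classical
    refine (Cfsg.Agent.S3633.result ({2, r, s} : Finset ℕ) ?_ ⟨?_, ?_⟩ (⊥ : Subgroup G)
      inferInstance).2 hsol
    · rw [Finset.card_insert_of_notMem (by simp [Ne.symm hr2, Ne.symm hs2]),
        Finset.card_insert_of_notMem (by simp [hrs]), Finset.card_singleton]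
    · simp [Nat.prime_two, h2G, hr, hrG, hs', hsG]
    · intro a ha b hb hab
      simp only [Finset.mem_insert, Finset.mem_singleton] at ha hb
      rintro ⟨g, hg⟩
      rcases ha with rfl | rfl | rfl <;> rcases hb with rfl | rfl | rfl
      all_goals first
        | exact hab rfl
        | exact hno2 _ hr hr2 g hg
        | exact hno2 _ hs' hs2 g hg
        | exact hno2 _ hr hr2 g (hg.trans (Nat.mul_comm _ _))
        | exact hno2 _ hs' hs2 g (hg.trans (Nat.mul_comm _ _))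
        | exact hnrs g hg
        | exact hnrs g (hg.trans (Nat.mul_comm _ _))
  obtain ⟨M, hMn, hM, hC, hcases⟩ := cases hs hc hns
  haveI := hMn
  haveI := hM
  have hup : ∀ a : ℕ, a.Prime → a ≠ 2 → a ∣ 2 ^ (2 * m) - 1 → a ∣ Nat.card (G ⧸ Cfsg.pCore 2 G) :=
    fun a ha ha2 hd => dvd_quotient ha ha2 ((h.1 a ha).1 ((hpiP a ha ha2).2 hd))
  have hdown : ∀ a : ℕ, a.Prime → a ≠ 2 → a ∣ Nat.card M → a ∣ 2 ^ (2 * m) - 1 :=
    fun a ha ha2 hd => (hpiP a ha ha2).1 ((h.1 a ha).2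
      (hd.trans ((Subgroup.card_subgroup_dvd_card M).trans (Subgroup.card_quotient_dvd_card _))))
  obtain ⟨R, hR⟩ := exists_primitive (n := 2 * m) (by omega) (by omega)
  have hR9 : 9 ≤ R := by have := hR.succ_le (by omega); omega
  have hR2 : R ≠ 2 := by omega
  have hRQ := hup R hR.1 hR2 hR.2.1
  rcases hcases with ⟨htop, hti⟩ | hodd | hl
  · have hcard : Nat.card M = Nat.card (G ⧸ Cfsg.pCore 2 G) := by rw [htop, Subgroup.card_top]
    rcases hti with ⟨F', i1, i2, n, hn, ⟨e⟩⟩ | hsz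
    · letI := i1; letI := i2
      have hiff : ∀ a : ℕ, a.Prime → a ≠ 2 → (a ∣ 2 ^ (2 * n) - 1 ↔ a ∣ 2 ^ (2 * m) - 1) := by
        intro a ha ha2
        have h1 : a ∣ Nat.card M ↔ a ∣ 2 ^ (2 * n) - 1 := by
          rw [Nat.card_congr e.toEquiv, odd_dvd_psl ha ha2, hn,
            show 2 ^ (2 * n) - 1 = (2 ^ n + 1) * (2 ^ n - 1) by rw [pow_mul', ← Nat.sq_sub_sq, one_pow],
            ha.dvd_mul]
          have : ¬ a ∣ 2 ^ n := fun e' =>
            ha2 ((Nat.prime_dvd_prime_iff_eq ha Nat.prime_two).1 (ha.dvd_of_dvd_pow e'))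
          tauto
        exact ⟨fun e' => hdown a ha ha2 (h1.2 e'), fun e' => h1.1 (hcard ▸ hup a ha ha2 e')⟩
      have hn0 : n ≠ 0 := by
        rintro rfl
        have := Fintype.one_lt_card (α := F')
        simp at hn
        omega
      have hmn : m ∣ n := Nat.dvd_of_mul_dvd_mul_left two_pos
        (hR.dvd_of_dvd (by omega) ((hiff R hR.1 hR2).2 hR.2.1))
      have hmle := Nat.le_of_dvd (by omega) hmn
      obtain ⟨R', hR'⟩ := exists_primitive (n := 2 * n) (by omega) (by omega)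
      have hnm : n ∣ m := Nat.dvd_of_mul_dvd_mul_left two_pos
        (hR'.dvd_of_dvd (by omega) ((hiff R' hR'.1 (hR'.ne_two (by omega))).1 hR'.2.1))
      have hnm' : n = m := Nat.dvd_antisymm hnm hmn
      obtain ⟨e'⟩ := PSucc.psl_congr (FiniteField.ringEquivOfCardEq (K := F') (K' := F) (by rw [hn, hF, hnm']))
      exact ⟨Subgroup.topEquiv.symm.trans ((MulEquiv.subgroupCongr htop.symm).trans (e.trans e'))⟩
    · exfalso
      have h3 : 3 ∣ 2 ^ (2 * m) - 1 := three_dvd_two_pow_even ⟨m, two_mul m⟩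
      exact (suzuki_card hsz).1 (hcard ▸ hup 3 Nat.prime_three (by norm_num) h3)
  · exfalso
    obtain ⟨F', i1, i2, hF', ⟨e⟩⟩ := hodd
    letI := i1; letI := i2
    rcases hF' with h9 | ⟨hp, k, hk⟩
    · haveI : Fact (Nat.Prime 3) := ⟨Nat.prime_three⟩
      rcases prime_psl M hC e (p := 3) (f := 2) (by rw [h9]; norm_num) hR.1 hR2 hRQ with e' | e'
      · rw [Nat.card_congr e.toEquiv, odd_dvd_psl hR.1 hR2, h9] at e'
        rcases e' with e' | e' | e'
        · rw [show 9 = 3 ^ 2 by norm_num] at e'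
          have := Nat.le_of_dvd (by norm_num) (hR.1.dvd_of_dvd_pow e'); omega
        · have h8 : R ∣ 8 := e'
          have := Nat.le_of_dvd (by norm_num) h8; omega
        · have h10 : R ∣ 2 * 5 := e'
          rcases hR.1.dvd_mul.1 h10 with e'' | e''
          · have := Nat.le_of_dvd (by norm_num) e''; omega
          · have := Nat.le_of_dvd (by norm_num) e''; omega
      · have := Nat.le_of_dvd (by norm_num) e'; omega
    · haveI := Fact.mk hp
      refine fermat_mersenne_false hm hp hk (fun a ha ha2 hd => ?_) fun hp2 => ?_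
      · rcases prime_psl M hC e (p := Fintype.card F') (f := 1) (pow_one _).symm ha ha2
          (hup a ha ha2 hd) with e' | e'
        · rwa [Nat.card_congr e.toEquiv, odd_dvd_psl ha ha2] at e'
        · exact absurd (Nat.dvd_one.1 e') ha.ne_one
      · refine hdown _ hp hp2 ?_
        rw [Nat.card_congr e.toEquiv, odd_dvd_psl hp hp2]
        exact Or.inl dvd_rfl
  · exfalso
    have hRM := prime_l34 M ((isO2_pCore (G := G)).quotient_cit hc) hl hR.1 hR2 hRQ
    obtain ⟨F', i1, i2, hF', ⟨e⟩⟩ := hl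
    classical
    letI := i1; letI := i2
    haveI : Fintype (Projectivization F' (Fin 3 → F')) := Fintype.ofFinite _
    rw [Nat.card_congr e.toEquiv, PlanePSL.card_psl hF', show 20160 = 2 ^ 6 * (3 ^ 2 * (5 * 7)) by norm_num,
      hR.1.dvd_mul, hR.1.dvd_mul, hR.1.dvd_mul] at hRM
    rcases hRM with e' | e' | e' | e'
    · have := Nat.le_of_dvd two_pos (hR.1.dvd_of_dvd_pow e'); omega
    · have := Nat.le_of_dvd (by norm_num) (hR.1.dvd_of_dvd_pow e'); omega
    · have := Nat.le_of_dvd (by norm_num) e'; omega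
    · have := Nat.le_of_dvd (by norm_num) e'; omega


end Cfsg.Agent.CITStruct.GraphPSL
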