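import Cfsg.Statements.S3396
import Cfsg.Agent.Lib.CITStruct.Primes
import Cfsg.Agent.Lib.CITStruct.Arith
import Cfsg.Agent.Lib.Recog.SL2Orders
import Cfsg.Agent.Lib.Small.DegreePrimeSuccData
import Cfsg.Agent.Lib.FGStruct.OutsidePrimePower
import Cfsg.Agent.S3633

/-!
# Consequences for insoluble groups with 2-group centralisers of involutions
-/

set_option autoImplicit false
set_option linter.style.haveILetI false

namespace Cfsg.Agent.CITStruct.OrdersSeven

open Cfsg.Agent.CITStruct Cfsg.Agent.CNSimple Cfsg.Agent.Invol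

universe u

/-- The admitted element orders. -/
def Ok (n : ℕ) : Prop := (∃ k, n = 2 ^ k) ∨ (n.Prime ∧ n ≠ 5)

theorem Ok.of_dvd {a b : ℕ} (hb : Ok b) (h : a ∣ b) : Ok a := by
  rcases hb with ⟨k, rfl⟩ | ⟨hb, h5⟩
  · obtain ⟨j, -, rfl⟩ := (Nat.dvd_prime_pow Nat.prime_two).1 h
    exact Or.inl ⟨j, rfl⟩
  · rcases (Nat.dvd_prime hb).1 h with rfl | rfl
    · exact Or.inl ⟨0, rfl⟩
    · exact Or.inr ⟨hb, h5⟩

theorem Ok.not_five (h : Ok 5) : False := by
  rcases h with ⟨k, hk⟩ | ⟨-, h⟩
  · rcases k with _ | k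
    · norm_num at hk
    · rw [pow_succ] at hk; omega
  · exact h rfl

theorem Ok.eq_three {n : ℕ} (h : Ok n) (h3 : 3 ∣ n) : n = 3 := by
  rcases h with ⟨k, rfl⟩ | ⟨hn, -⟩
  · exact absurd ((Nat.prime_dvd_prime_iff_eq Nat.prime_three Nat.prime_two).1
      (Nat.prime_three.dvd_of_dvd_pow h3)) (by norm_num)
  · exact ((Nat.prime_dvd_prime_iff_eq Nat.prime_three hn).1 h3).symm

theorem Ok.not_mul {n r s : ℕ} (h : Ok n) (hr : r.Prime) (hs : s.Prime) (hrs : r ≠ s)
    (e : r * s ∣ n) : False := by
  rcases h with ⟨k, rfl⟩ | ⟨hn, -⟩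
  · exact hrs (((Nat.prime_dvd_prime_iff_eq hr Nat.prime_two).1
      (hr.dvd_of_dvd_pow ((Dvd.intro s rfl).trans e))).trans
      ((Nat.prime_dvd_prime_iff_eq hs Nat.prime_two).1
      (hs.dvd_of_dvd_pow ((Dvd.intro_left r rfl).trans e))).symm)
  · exact hrs (((Nat.prime_dvd_prime_iff_eq hr hn).1 ((Dvd.intro s rfl).trans e)).trans
      ((Nat.prime_dvd_prime_iff_eq hs hn).1 ((Dvd.intro_left r rfl).trans e)).symm)

/-- A group between `PSL(2, 7)` and its automorphism group with these element orders is `PSL(2, 7)`. -/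
theorem eq_top {Q : Type u} [Group Q] [Finite Q] (hQ : ∀ y : Q, Ok (orderOf y)) (M : Subgroup Q)
    [M.Normal] (hC : Subgroup.centralizer (M : Set Q) = ⊥) {F : Type} [Field F] [Fintype F]
    (hF : Fintype.card F = 7) (e : M ≃* Matrix.ProjectiveSpecialLinearGroup (Fin 2) F) : M = ⊤ := by
  classical
  haveI : Fact (Nat.Prime 7) := ⟨by norm_num⟩
  set φ : Q →* MulAut (Matrix.ProjectiveSpecialLinearGroup (Fin 2) F) :=
    (MulAut.congr e).toMonoidHom.comp MulAut.conjNormal with hφ
  have hinj : Function.Injective φ := (MulAut.congr e).injective.comp (conjNormal_injective M hC)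
  have hin : ∀ a : M, φ a = MulAut.conj (e a) := by
    intro a
    have : (MulAut.conjNormal (H := M) (a : Q)) = MulAut.conj a := MulEquiv.ext fun b => Subtype.ext (by
      rw [MulAut.conjNormal_apply]; rfl)
    show MulAut.congr e (MulAut.conjNormal (H := M) (a : Q)) = _
    rw [this]
    exact GW.autCongr_conj e a
  have hfld : ∀ x : Q, φ x ∈ Cfsg.inndiagPSL 2 F := fun x => (GW.mem_inndiag_iff_fld _).2
    (orderOf_eq_one_iff.1 (Nat.dvd_one.1 (AutPSL.orderOf_dvd_exponent 7 1 (by rw [hF, pow_one]) _)))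
  refine (Subgroup.eq_top_iff' M).2 fun x => ?_
  by_cases hx : φ x ∈ Cfsg.Inn (Matrix.ProjectiveSpecialLinearGroup (Fin 2) F)
  · obtain ⟨a, ha⟩ : ∃ a, MulAut.conj a = φ x := hx
    have h1 : φ ((e.symm a : M) : Q) = φ x := by rw [hin, e.apply_symm_apply, ha]
    exact hinj h1 ▸ (e.symm a).2
  exfalso
  obtain ⟨w, hw⟩ := IsCyclic.exists_ofOrder_eq_natCard (α := Fˣ)
  rw [Nat.card_eq_fintype_card, Fintype.card_units, hF] at hw
  set g : GL (Fin 2) F := AutPSL.diagGL ![w, 1] with hg
  set h : MulAut (Matrix.ProjectiveSpecialLinearGroup (Fin 2) F) := AutPSL.conjHom g with hh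
  have hdet : Matrix.GeneralLinearGroup.det g = w := by
    rw [hg, AutPSL.det_diagGL, Fin.prod_univ_two]; simp
  have hout : h ∉ Cfsg.Inn (Matrix.ProjectiveSpecialLinearGroup (Fin 2) F) := by
    intro hmem
    have h1 := (AutPSL.semi_mem_inn le_rfl g).1 hmem
    rw [hdet] at h1
    obtain ⟨c, hc⟩ := h1
    have hc' : c ^ 2 = w := hc
    have h2 : w ^ 3 = 1 := by
      have h6 : c ^ 6 = 1 := orderOf_dvd_iff_pow_eq_one.1 ((orderOf_dvd_natCard c).trans
        (by rw [Nat.card_eq_fintype_card, Fintype.card_units, hF]))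
      rw [← hc', ← pow_mul, h6]
    have := Nat.le_of_dvd (by norm_num) (orderOf_dvd_of_pow_eq_one h2)
    omega
  have hprod : φ x * h ∈ Cfsg.Inn (Matrix.ProjectiveSpecialLinearGroup (Fin 2) F) :=
    (GW.inn_mul_mem (by rw [hF]; decide) (hfld x)
      ((AutPSL.range_conjHom (F := F) (n := 2)) ▸ ⟨g, rfl⟩)).2 ⟨fun h' => absurd h' hx, fun h' => absurd h' hout⟩
  obtain ⟨a, ha⟩ : ∃ a, MulAut.conj a = φ x * h := hprod
  set y : Q := x⁻¹ * ((e.symm a : M) : Q) with hy
  have hφy : φ y = h := by
    rw [hy, map_mul, map_inv, hin, e.apply_symm_apply, ha, inv_mul_cancel_left]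
  have hk : h ^ orderOf y = 1 := by
    rw [← hφy, ← map_pow, pow_orderOf_eq_one, map_one]
  rw [hh, ← map_pow, AutPSL.conjHom_apply, AutPSL.semi_eq_one_iff le_rfl] at hk
  obtain ⟨-, c, hc⟩ := hk
  have hc2 : (((g ^ orderOf y : GL (Fin 2) F)) : Matrix (Fin 2) (Fin 2) F) =
      ((Matrix.GeneralLinearGroup.scalar (Fin 2) c : GL (Fin 2) F) : Matrix (Fin 2) (Fin 2) F) :=
    congrArg Units.val hc
  rw [Units.val_pow_eq_pow_val, hg, AutPSL.diagGL_coe, Matrix.diagonal_pow] at hc2
  have h0 : (w : F) ^ orderOf y = c := by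
    have := congrFun (congrFun hc2 0) 0
    simpa using this
  have h1 : (1 : F) = c := by
    have := congrFun (congrFun hc2 1) 1
    simpa using this
  have hwk : w ^ orderOf y = 1 := Units.ext (by rw [Units.val_pow_eq_pow_val, h0, ← h1, Units.val_one])
  have h6 : 2 * 3 ∣ orderOf y := by
    have := orderOf_dvd_of_pow_eq_one hwk
    rwa [hw] at this
  exact (hQ y).not_mul Nat.prime_two Nat.prime_three (by norm_num) h6

theorem key (hs : HSimple.{u}) {G : Type u} [Group G] [Finite G]
    {F : Type*} [Field F] [Fintype F] (hF : Fintype.card F = 7)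
    (h3 : 3 ≤ (Nat.card G).primeFactors.card)
    (hord : ∀ g : G, g ≠ 1 → (∃ k : ℕ, orderOf g = 2 ^ k) ∨ ((orderOf g).Prime ∧ orderOf g ≠ 5)) :
    Nonempty (G ≃* Matrix.ProjectiveSpecialLinearGroup (Fin 2) F) := by
  classical
  haveI : Fact (Nat.Prime 2) := ⟨Nat.prime_two⟩
  have hok : ∀ g : G, Ok (orderOf g) := fun g => by
    by_cases h1 : g = 1
    · subst h1; exact Or.inl ⟨0, by simp⟩
    · exact hord g h1
  have hc : CIT G := cit_of_no_edge fun r hr hr2 g hg =>
    (hok g).not_mul Nat.prime_two hr (Ne.symm hr2) (dvd_of_eq hg.symm)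
  have hns : ¬ Group.IsSolvable G := fun hsol => by
    refine (Cfsg.Agent.S3633.result (Nat.card G).primeFactors h3 ⟨?_, ?_⟩ (⊥ : Subgroup G)
      inferInstance).2 hsol
    · exact fun r hr => ⟨Nat.prime_of_mem_primeFactors hr, Nat.dvd_of_mem_primeFactors hr⟩
    · rintro r hr s hs' hrs ⟨g, hg⟩
      exact (hok g).not_mul (Nat.prime_of_mem_primeFactors hr) (Nat.prime_of_mem_primeFactors hs') hrs
        (dvd_of_eq hg.symm)
  set X := Cfsg.pCore 2 G with hX
  have hokQ : ∀ y : G ⧸ X, Ok (orderOf y) := fun y => by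
    obtain ⟨g, hg⟩ := exists_order_multiple X y
    exact (hok g).of_dvd hg
  obtain ⟨M, hMn, hM, hC, hcases⟩ := cases hs hc hns
  haveI := hMn
  haveI := hM
  have hokM : ∀ y : M, Ok (orderOf y) := fun y => by
    have h := hokQ (y : G ⧸ X)
    rwa [Subgroup.orderOf_coe] at h
  have hno5 : ¬ 5 ∣ Nat.card M := fun h5 => by
    haveI : Fact (Nat.Prime 5) := ⟨by norm_num⟩
    obtain ⟨y, hy⟩ := exists_prime_orderOf_dvd_card' 5 h5
    exact (hy ▸ hokM y).not_five
  -- the socle is the linear group over seven elements and is everything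
  obtain ⟨F', i1, i2, hF', ⟨e⟩, htop⟩ : ∃ (F' : Type) (_ : Field F') (_ : Fintype F'),
      Fintype.card F' = 7 ∧ Nonempty (M ≃* Matrix.ProjectiveSpecialLinearGroup (Fin 2) F') ∧ M = ⊤ := by
    rcases hcases with ⟨htop, hti⟩ | hodd | hl
    · exfalso
      rcases hti with ⟨F', i1, i2, n, hn, ⟨e⟩⟩ | hsz
      · letI := i1; letI := i2
        have hn1 : 1 ≤ n := by
          by_contra hc'
          have := Fintype.one_lt_card (α := F')
          rw [show n = 0 by omega, pow_zero] at hn
          omega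
        rcases Nat.lt_or_ge n 2 with hn2 | hn2
        · have hn' : n = 1 := by omega
          subst hn'
          have hsub : (Nat.card G).primeFactors ⊆ {2, 3} := fun r hr => by
            have hrp := Nat.prime_of_mem_primeFactors hr
            by_contra hne
            simp only [Finset.mem_insert, Finset.mem_singleton, not_or] at hne
            have hd := dvd_quotient hrp hne.1 (Nat.dvd_of_mem_primeFactors hr)
            rw [← Subgroup.card_top, ← htop, Nat.card_congr e.toEquiv, odd_dvd_psl hrp hne.1, hn] at hd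
            norm_num at hd
            rcases hd with hd | hd | hd
            · exact hne.1 ((Nat.prime_dvd_prime_iff_eq hrp Nat.prime_two).1 hd)
            · exact hrp.ne_one hd
            · exact hne.2 ((Nat.prime_dvd_prime_iff_eq hrp Nat.prime_three).1 hd)
          have := h3.trans (Finset.card_le_card hsub)
          simp at this
        haveI : CharP F' 2 := by
          obtain ⟨p, hp⟩ := CharP.exists F'
          haveI := hp
          haveI : Fact p.Prime := ⟨CharP.char_is_prime F' p⟩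
          obtain ⟨j, hpj, hj⟩ := FiniteField.card F' p
          have hd : p ∣ 2 ^ n := by rw [← hn, hj]; exact dvd_pow_self p j.ne_zero
          have h2 : p = 2 := (Nat.prime_dvd_prime_iff_eq hpj Nat.prime_two).1 (hpj.dvd_of_dvd_pow hd)
          exact h2 ▸ hp
        have hq : 2 ^ 2 ≤ 2 ^ n := Nat.pow_le_pow_right (by norm_num) hn2
        have he : 2 ^ n % 2 = 0 := by
          rw [show n = n - 1 + 1 by omega, pow_succ]; omega
        obtain ⟨g₁, hg₁⟩ := SL2Orders.exists_orderOf_split (F := F') (by omega)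
        obtain ⟨g₂, hg₂⟩ := SL2Orders.exists_orderOf_nonsplit (F := F') 2
        have hgp : (2 ^ n - 1).gcd 2 = 1 := Nat.coprime_two_right.2 (Nat.odd_iff.2 (by omega))
        have hgs : (2 ^ n + 1).gcd 2 = 1 := Nat.coprime_two_right.2 (Nat.odd_iff.2 (by omega))
        rw [hn, SL2Orders.halfPred, hgp, Nat.div_one] at hg₁
        rw [hn, SL2Orders.halfSucc, hgs, Nat.div_one] at hg₂
        have ho1 : Ok (2 ^ n - 1) := by
          rw [← hg₁, ← MulEquiv.orderOf_eq e.symm]; exact hokM _
        have ho2 : Ok (2 ^ n + 1) := by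
          rw [← hg₂, ← MulEquiv.orderOf_eq e.symm]; exact hokM _
        rcases Nat.even_or_odd n with hpar | hpar
        · have h' := ho1.eq_three (three_dvd_two_pow_even hpar)
          have h5 : 2 ^ n + 1 = 5 := by omega
          exact (h5 ▸ ho2).not_five
        · have h' := ho2.eq_three (three_dvd_two_pow_odd hpar)
          omega
      · exact hno5 (suzuki_card hsz).2
    · obtain ⟨F', i1, i2, hF', ⟨e⟩⟩ := hodd
      letI := i1; letI := i2
      have h5F : ¬ (5 ∣ Fintype.card F' ∨ 5 ∣ Fintype.card F' - 1 ∨ 5 ∣ Fintype.card F' + 1) := fun h =>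
        hno5 (by rw [Nat.card_congr e.toEquiv, odd_dvd_psl (by norm_num) (by norm_num)]; exact h)
      rcases hF' with h9 | ⟨hp, k, hk⟩
      · exact absurd (Or.inr (Or.inr (by rw [h9]; norm_num))) h5F
      haveI := Fact.mk hp
      haveI : CharP F' (Fintype.card F') := by
        obtain ⟨p, hp'⟩ := CharP.exists F'
        haveI := hp'
        haveI : Fact p.Prime := ⟨CharP.char_is_prime F' p⟩
        obtain ⟨j, hpj, hj⟩ := FiniteField.card F' p
        have : Fintype.card F' = p := ((Nat.prime_dvd_prime_iff_eq hpj hp).1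
          (hj ▸ dvd_pow_self p j.ne_zero)).symm
        rw [this]; exact hp'
      by_cases h7 : Fintype.card F' = 7
      · exact ⟨F', i1, i2, h7, ⟨e⟩, eq_top hokQ M hC h7 e⟩
      exfalso
      by_cases h3' : Fintype.card F' = 3 ∨ Fintype.card F' = 2
      · have hsub : (Nat.card G).primeFactors ⊆ {2, 3} := fun r hr => by
          have hrp := Nat.prime_of_mem_primeFactors hr
          by_contra hne
          simp only [Finset.mem_insert, Finset.mem_singleton, not_or] at hne
          rcases prime_psl M hC e (p := Fintype.card F') (f := 1) (pow_one _).symm hrp hne.1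
            (dvd_quotient hrp hne.1 (Nat.dvd_of_mem_primeFactors hr)) with hd | hd
          · rw [Nat.card_congr e.toEquiv, odd_dvd_psl hrp hne.1] at hd
            have h6 : r ∣ 2 ^ 2 * 3 := by
              rcases h3' with h' | h' <;> rw [h'] at hd <;> rcases hd with hd | hd | hd <;>
                exact hd.trans (by norm_num)
            rcases hrp.dvd_mul.1 h6 with hd | hd
            · exact hne.1 ((Nat.prime_dvd_prime_iff_eq hrp Nat.prime_two).1 (hrp.dvd_of_dvd_pow hd))
            · exact hne.2 ((Nat.prime_dvd_prime_iff_eq hrp Nat.prime_three).1 hd)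
          · exact hrp.ne_one (Nat.dvd_one.1 hd)
        have := h3.trans (Finset.card_le_card hsub)
        simp at this
      have h5' : Fintype.card F' ≠ 5 := fun h => h5F (Or.inl (by rw [h]))
      rcases hk with hk | hk
      · have hk3 : 3 ≤ k := by
          by_contra hc'
          interval_cases k
          · exact h3' (Or.inr (by rw [hk]; rfl))
          · exact h3' (Or.inl (by rw [hk]; rfl))
          · exact h5' (by rw [hk]; rfl)
        obtain ⟨j, hj⟩ := fermat_exp (by omega) (hk ▸ hp)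
        have hkodd : Odd (k - 1) := by
          rw [Nat.odd_iff]
          have : k % 2 = 0 := by rw [hj, pow_succ]; omega
          omega
        have hp1 : Fintype.card F' + 1 = 2 * (2 ^ (k - 1) + 1) := by
          rw [hk, mul_add, ← pow_succ', show k - 1 + 1 = k by omega]
        obtain ⟨g, hg⟩ := SL2Orders.exists_orderOf_nonsplit (F := F') (Fintype.card F')
        have hgs : (Fintype.card F' + 1).gcd 2 = 2 := Nat.gcd_eq_right (hp1 ▸ dvd_mul_right _ _)
        rw [SL2Orders.halfSucc, hgs, hp1, Nat.mul_div_cancel_left _ two_pos] at hg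
        have ho : Ok (2 ^ (k - 1) + 1) := by rw [← hg, ← MulEquiv.orderOf_eq e.symm]; exact hokM _
        have h' := ho.eq_three (three_dvd_two_pow_odd hkodd)
        have : 2 ^ 2 ≤ 2 ^ (k - 1) := Nat.pow_le_pow_right (by norm_num) (by omega)
        omega
      · have hk4 : 4 ≤ k := by
          by_contra hc'
          interval_cases k <;> omega
        have hpk : Fintype.card F' = 2 ^ k - 1 := by omega
        obtain ⟨-, hko⟩ := mersenne_exp (by omega) (hpk ▸ hp)
        have hkev : Even (k - 1) := by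
          rw [Nat.even_iff]; rw [Nat.odd_iff] at hko; omega
        have hpow : 2 ^ k = 2 * 2 ^ (k - 1) := by rw [← pow_succ', show k - 1 + 1 = k by omega]
        have hbig : 2 ^ 3 ≤ 2 ^ (k - 1) := Nat.pow_le_pow_right (by norm_num) (by omega)
        have hp1 : Fintype.card F' - 1 = 2 * (2 ^ (k - 1) - 1) := by omega
        obtain ⟨g, hg⟩ := SL2Orders.exists_orderOf_split (F := F') (by omega)
        have hgs : (Fintype.card F' - 1).gcd 2 = 2 := Nat.gcd_eq_right (hp1 ▸ dvd_mul_right _ _)
        rw [SL2Orders.halfPred, hgs, hp1, Nat.mul_div_cancel_left _ two_pos] at hg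
        have ho : Ok (2 ^ (k - 1) - 1) := by rw [← hg, ← MulEquiv.orderOf_eq e.symm]; exact hokM _
        have h' := ho.eq_three (three_dvd_two_pow_even hkev)
        omega
    · exfalso
      obtain ⟨F', i1, i2, hF', ⟨e⟩⟩ := hl
      letI := i1; letI := i2
      haveI : Fintype (Projectivization F' (Fin 3 → F')) := Fintype.ofFinite _
      exact hno5 (by rw [Nat.card_congr e.toEquiv, PlanePSL.card_psl hF']; norm_num)
  letI := i1; letI := i2
  have eQ : (G ⧸ X) ≃* Matrix.ProjectiveSpecialLinearGroup (Fin 2) F' :=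
    Subgroup.topEquiv.symm.trans ((MulEquiv.subgroupCongr htop.symm).trans e)
  have hcard : Nat.card (G ⧸ X) = 168 := by
    have h := card_psl_eq (F := F')
    rw [hF', show Nat.gcd 2 (7 - 1) = 2 from rfl] at h
    rw [Nat.card_congr eQ.toEquiv]
    omega
  haveI : IsSimpleGroup (G ⧸ X) :=
    haveI : Nontrivial (G ⧸ X) := Finite.one_lt_card_iff_nontrivial.1 (by omega)
    haveI : IsSimpleGroup ((⊤ : Subgroup (G ⧸ X))) := htop ▸ hM
    IsSimpleGroup.isSimpleGroup_of_surjective (Subgroup.topEquiv : (⊤ : Subgroup (G ⧸ X)) ≃* G ⧸ X).toMonoidHom (Subgroup.topEquiv : (⊤ : Subgroup (G ⧸ X)) ≃* G ⧸ X).surjective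
  -- the largest normal `2`-subgroup is trivial
  have hXbot : X = ⊥ := by
    by_contra hne
    haveI : Fact (Nat.Prime 7) := ⟨by norm_num⟩
    haveI : Fact (Nat.Prime 3) := ⟨Nat.prime_three⟩
    haveI : Nontrivial X := (Subgroup.nontrivial_iff_ne_bot X).2 hne
    have hXp : IsPGroup 2 X := (isO2_pCore (G := G)).isPGroup
    set V : Subgroup G := (Subgroup.center X).map X.subtype with hV
    haveI : V.Normal := ConjAct.normal_of_characteristic_of_normal
    have hV1 : V ≠ ⊥ := fun e0 => by
      have := hXp.center_nontrivial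
      exact (Subgroup.nontrivial_iff_ne_bot _).1 this
        ((Subgroup.map_eq_bot_iff_of_injective _ X.subtype_injective).1 e0)
    have hVcomm : ∀ a ∈ X, ∀ v ∈ V, a * v = v * a := by
      rintro a ha _ ⟨z, hz, rfl⟩
      exact congrArg Subtype.val (Subgroup.mem_center_iff.1 hz ⟨a, ha⟩)
    have hVX : V ≤ X := Subgroup.map_subtype_le _
    let cg : CommGroup V := { (inferInstance : Group V) with
      mul_comm := fun a b => Subtype.ext (hVcomm a (hVX a.2) b b.2) }
    have hker : X ≤ (MulAut.conjNormal : G →* MulAut V).ker := fun a ha => by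
      refine MonoidHom.mem_ker.2 (MulEquiv.ext fun v => Subtype.ext ?_)
      rw [MulAut.conjNormal_apply, MulAut.one_apply, hVcomm a ha v v.2, mul_inv_cancel_right]
    let ρ : (G ⧸ X) →* MulAut V := QuotientGroup.lift X MulAut.conjNormal hker
    -- elements with an odd order image act without fixed points
    have hact : ∀ (y : G ⧸ X) (r : ℕ), r.Prime → r ≠ 2 → r ∣ orderOf y → ∀ v : V, ρ y v = v → v = 1 := by
      intro y r hr hr2 hry v hv
      by_contra hv1
      obtain ⟨g, rfl⟩ := QuotientGroup.mk_surjective y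
      have hgr : r ∣ orderOf g := hry.trans (orderOf_map_dvd (QuotientGroup.mk' X) g)
      have hgo : orderOf g = r := by
        rcases hok g with ⟨k, hk⟩ | ⟨hp, -⟩
        · exact absurd ((Nat.prime_dvd_prime_iff_eq hr Nat.prime_two).1 (hr.dvd_of_dvd_pow (hk ▸ hgr))) hr2
        · exact ((Nat.prime_dvd_prime_iff_eq hr hp).1 hgr).symm
      have hcomm : g * (v : G) * g⁻¹ = v := congrArg Subtype.val hv
      obtain ⟨k, hk⟩ := order_two_pow hXp (hVX v.2)
      have h1 := hc.odd_comm (fun e0 => hv1 (Subtype.ext e0)) hk (hgo ▸ hr.odd_of_ne_two hr2)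
        (mul_inv_eq_iff_eq_mul.1 hcomm)
      rw [h1, orderOf_one] at hgo
      exact hr.ne_one hgo.symm
    obtain ⟨P⟩ := (inferInstance : Nonempty (Sylow 7 (G ⧸ X)))
    have hPc : Nat.card (P : Subgroup (G ⧸ X)) = 7 := by
      rw [P.card_eq_multiplicity, hcard, Nat.factorization_def _ (by norm_num)]
      rw [show (168 : ℕ) = 7 ^ 1 * 24 by norm_num, padicValNat.mul (by norm_num) (by norm_num),
        padicValNat.prime_pow, padicValNat.eq_zero_of_not_dvd (by norm_num : ¬ 7 ∣ 24)]
      norm_num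
    have hn7 : Nat.card (Sylow 7 (G ⧸ X)) = 8 := by
      have h1 := P.card_dvd_index
      have hidx : (P : Subgroup (G ⧸ X)).index = 24 := by
        have := (P : Subgroup (G ⧸ X)).card_mul_index
        rw [hPc, hcard] at this
        omega
      rw [hidx] at h1
      have h2 := card_sylow_modEq_one 7 (G ⧸ X)
      have h4 : Nat.card (Sylow 7 (G ⧸ X)) ≠ 1 := by
        intro h
        have hN : Subgroup.normalizer ((P : Subgroup (G ⧸ X)) : Set (G ⧸ X)) = ⊤ :=
          Subgroup.index_eq_one.1 (P.card_eq_index_normalizer ▸ h)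
        rcases (Subgroup.normalizer_eq_top_iff.1 hN).eq_bot_or_eq_top with e0 | e0
        · rw [e0, Subgroup.card_bot] at hPc; omega
        · rw [e0, Subgroup.card_top, hcard] at hPc; omega
      have hle := Nat.le_of_dvd (by norm_num) h1
      have h2' : Nat.card (Sylow 7 (G ⧸ X)) % 7 = 1 := h2
      interval_cases h : Nat.card (Sylow 7 (G ⧸ X)) <;> omega
    have hNc : Nat.card (Subgroup.normalizer ((P : Subgroup (G ⧸ X)) : Set (G ⧸ X))) = 21 := by
      have := (Subgroup.normalizer ((P : Subgroup (G ⧸ X)) : Set (G ⧸ X))).card_mul_index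
      rw [hcard] at this
      have h8 : (Subgroup.normalizer ((P : Subgroup (G ⧸ X)) : Set (G ⧸ X))).index = 8 :=
        P.card_eq_index_normalizer.symm.trans hn7
      rw [h8] at this
      omega
    obtain ⟨⟨x, hxN⟩, hx⟩ := exists_prime_orderOf_dvd_card' 3 (G := Subgroup.normalizer
      ((P : Subgroup (G ⧸ X)) : Set (G ⧸ X))) (by rw [hNc]; norm_num)
    rw [Subgroup.orderOf_mk] at hx
    haveI : IsCyclic (P : Subgroup (G ⧸ X)) := isCyclic_of_prime_card hPc
    have hPab : ∀ a ∈ (P : Subgroup (G ⧸ X)), ∀ b ∈ (P : Subgroup (G ⧸ X)), a * b = b * a := by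
      letI : CommGroup (P : Subgroup (G ⧸ X)) := IsCyclic.commGroup
      intro a ha b hb
      exact congrArg Subtype.val (mul_comm (⟨a, ha⟩ : (P : Subgroup (G ⧸ X))) ⟨b, hb⟩)
    have hP7 : ∀ a ∈ (P : Subgroup (G ⧸ X)), a ≠ 1 → orderOf a = 7 := fun a ha ha1 =>
      ((Nat.dvd_prime (by norm_num)).1 (hPc ▸ Subgroup.orderOf_dvd_natCard _ ha)).resolve_left
        fun e0 => ha1 (orderOf_eq_one_iff.1 e0)
    have hfix : ∀ a ∈ (P : Subgroup (G ⧸ X)), x * a = a * x → a = 1 := fun a ha hxa => by
      by_contra ha1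
      have h21 := (show Commute x a from hxa).orderOf_mul_eq_mul_orderOf_of_coprime
        (by rw [hx, hP7 a ha ha1]; norm_num)
      rw [hx, hP7 a ha ha1] at h21
      exact (hokQ (x * a)).not_mul Nat.prime_three (by norm_num) (by norm_num) (dvd_of_eq h21.symm)
    have hVh : ∀ a ∈ (P : Subgroup (G ⧸ X)), ∀ v : V, ρ (a * x) v = v → v = 1 := by
      intro a ha
      refine hact (a * x) 3 Nat.prime_three (by norm_num) ?_
      by_contra hnd
      have hmemN : a * x ∈ Subgroup.normalizer ((P : Subgroup (G ⧸ X)) : Set (G ⧸ X)) :=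
        mul_mem (Subgroup.le_normalizer ha) hxN
      have hd := Subgroup.orderOf_dvd_natCard _ hmemN
      rw [hNc, show 21 = 3 * 7 by norm_num] at hd
      have h7 : orderOf (a * x) ∣ 7 :=
        ((Nat.prime_three.coprime_iff_not_dvd.2 hnd).symm).dvd_of_dvd_mul_left hd
      have hP' : a * x ∈ (P : Subgroup (G ⧸ X)) := by
        by_contra hnm
        have hpg : IsPGroup 7 (Subgroup.zpowers (a * x)) := by
          obtain ⟨j, -, hj⟩ := (Nat.dvd_prime_pow (by norm_num : Nat.Prime 7) (m := 1)).1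
            (h7.trans (dvd_of_eq (pow_one 7).symm))
          exact IsPGroup.of_card (n := j) ((Nat.card_zpowers _).trans hj)
        have hsup : IsPGroup 7 (Subgroup.zpowers (a * x) ⊔ (P : Subgroup (G ⧸ X)) : Subgroup (G ⧸ X)) :=
          IsPGroup.to_sup_of_normal_right' hpg P.isPGroup' (Subgroup.zpowers_le.2 hmemN)
        exact hnm (P.3 hsup le_sup_right ▸ Subgroup.mem_sup_left (Subgroup.mem_zpowers _))
      have hxP : x ∈ (P : Subgroup (G ⧸ X)) := by
        have := mul_mem (inv_mem ha) hP'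
        rwa [inv_mul_cancel_left] at this
      have := hPc ▸ Subgroup.orderOf_dvd_natCard _ hxP
      rw [hx] at this
      norm_num at this
    have hcopV : (Nat.card (P : Subgroup (G ⧸ X))).Coprime (Nat.card V) := by
      obtain ⟨k, hk⟩ := IsPGroup.iff_card.1 (hXp.to_le hVX)
      rw [hPc, hk]
      exact (Nat.coprime_primes (by norm_num) Nat.prime_two).2 (by norm_num) |>.pow_right k
    have htriv := OutsidePP.kernel_trivial (P : Subgroup (G ⧸ X)) hPab ρ Nat.prime_three
      (x := x) (by rw [← hx, pow_orderOf_eq_one]) (fun a ha => (Subgroup.mem_normalizer_iff.1 hxN a).1 ha)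
      hfix hVh hcopV
    haveI : Nontrivial (P : Subgroup (G ⧸ X)) := Finite.one_lt_card_iff_nontrivial.1 (by omega)
    obtain ⟨⟨a, ha⟩, ha1⟩ := exists_ne (1 : (P : Subgroup (G ⧸ X)))
    obtain ⟨⟨v, hv⟩, hv1⟩ := Subgroup.ne_bot_iff_exists_ne_one.1 hV1
    exact hv1 (hact a 7 (by norm_num) (by norm_num)
      (hP7 a ha (fun e0 => ha1 (Subtype.ext e0))).symm.dvd ⟨v, hv⟩ (by rw [htriv a ha]; rfl))
  obtain ⟨e'⟩ := PSucc.psl_congr (FiniteField.ringEquivOfCardEq (K := F') (K' := F) (by rw [hF', hF]))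
  exact ⟨(QuotientGroup.quotientBot.symm.trans
    ((QuotientGroup.quotientMulEquivOfEq hXbot.symm).trans (eQ.trans e')))⟩


end Cfsg.Agent.CITStruct.OrdersSeven
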