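import Cfsg.Agent.Lib.CNSimple.Almost
import Cfsg.Agent.Lib.CNSimple.Local

/-!
# Insoluble groups with `2`-group centralisers of involutions: the socle
-/

set_option autoImplicit false
set_option linter.style.haveILetI false
set_option linter.unusedSectionVars false

namespace Cfsg.Agent.CITStruct

open Cfsg.Agent.Invol Cfsg.Agent.CNSimple

universe u

/-- The classification of simple groups with `2`-group centralisers of involutions. -/
def HSimple : Prop :=
  ∀ (M : Type u) [Group M] [Finite M], IsSimpleGroup M → CIT M → (∃ a b : M, a * b ≠ b * a) →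
    (∃ K : Subgroup M, TIHyp K) ∨ IsOddPSL M ∨ IsL34 M

variable {G : Type u} [Group G] [Finite G]

/-- A group with a non-trivial normal subgroup of odd order is soluble. -/
theorem solvable_of_odd_normal (hc : CIT G) {R : Subgroup G} [R.Normal] (hR : Odd (Nat.card R))
    (hR1 : R ≠ ⊥) : Group.IsSolvable G := by
  have hinv : ∀ a : G, orderOf a = 2 → ∀ r ∈ R, a * r * a⁻¹ = r⁻¹ := by
    intro a ha r hr
    let φ : R →* R := (MulAut.conjNormal (H := R) a).toMonoidHom
    have hφ : ∀ x : R, ((φ x : R) : G) = a * x * a⁻¹ := fun x => MulAut.conjNormal_apply a x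
    have hfp : MonoidHom.FixedPointFree φ := fun x hx => by
      have e : a * (x : G) * a⁻¹ = x := (hφ x).symm.trans (congrArg Subtype.val hx)
      refine Subtype.ext (eq_one_of_odd (hc a ha) (mem_Ct.2 ?_) ?_)
      · exact (mul_inv_eq_iff_eq_mul.1 e).symm
      · exact hR.of_dvd_nat (Subgroup.orderOf_dvd_natCard R x.2)
    have hii : Function.Involutive φ := fun x => Subtype.ext (by
      rw [hφ, hφ, show a * (a * (x : G) * a⁻¹) * a⁻¹ = (a * a) * x * (a * a)⁻¹ by group, mul_self ha,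
        one_mul, inv_one, mul_one])
    exact (hφ ⟨r, hr⟩).symm.trans (congrArg Subtype.val (congrFun (hfp.coe_eq_inv_of_involutive hii) ⟨r, hr⟩))
  obtain ⟨⟨r, hr⟩, hr1⟩ := Subgroup.ne_bot_iff_exists_ne_one.1 hR1
  set D : Subgroup G := Subgroup.centralizer (R : Set G) with hD
  have hDodd : Odd (Nat.card D) := by
    rw [← Nat.not_even_iff_odd]
    intro he
    obtain ⟨z, hzD, hz⟩ := exists_invol he
    obtain ⟨⟨r, hr⟩, hr1⟩ := Subgroup.ne_bot_iff_exists_ne_one.1 hR1
    exact hr1 (Subtype.ext (eq_one_of_odd (hc z hz)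
      (mem_Ct.2 (Subgroup.mem_centralizer_iff.1 hzD r hr))
      (hR.of_dvd_nat (Subgroup.orderOf_dvd_natCard R hr))))
  by_cases hev : Even (Nat.card G)
  swap
  · exact OddChar.oddSolvable G (Nat.not_even_iff_odd.1 hev)
  obtain ⟨t, -, ht⟩ := exists_invol (K := (⊤ : Subgroup G)) (by rwa [Subgroup.card_top])
  -- every element lies in `D * C(t)`
  have hcov : ∀ g : G, ∃ d ∈ D, d * g ∈ Ct t := by
    intro g
    set s := g * t * g⁻¹ with hs
    have hso : orderOf s = 2 := (order_conj g t).trans ht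
    have hw : t * s ∈ D := by
      refine Subgroup.mem_centralizer_iff.2 fun r hr => ?_
      have e : t * s * r * (t * s)⁻¹ = r := by
        rw [show t * s * r * (t * s)⁻¹ = t * (s * r * s⁻¹) * t⁻¹ by group, hinv s hso r hr,
          hinv t ht _ (inv_mem hr), inv_inv]
      exact (mul_inv_eq_iff_eq_mul.1 e).symm
    obtain ⟨k, hk⟩ := hDodd.of_dvd_nat (Subgroup.orderOf_dvd_natCard D hw)
    set w := t * s with hwdef
    set d := w ^ (k + 1) with hd
    have hdd : d * d = w := by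
      rw [hd, ← pow_add, show k + 1 + (k + 1) = orderOf w + 1 by omega, pow_succ, pow_orderOf_eq_one,
        one_mul]
    have hst : s = t * w := by rw [hwdef, ← mul_assoc, mul_self ht, one_mul]
    have hwt : t * w * t⁻¹ = w⁻¹ := conj_mul ht hso
    have hdt : t * d * t⁻¹ = d⁻¹ := Invol.conj_pow hwt _
    refine ⟨d, pow_mem hw _, mem_Ct.2 ?_⟩
    have e : d⁻¹ * t * d = s := by
      rw [← hdt, hst, ← hdd, show t * d * t⁻¹ * t * d = t * (d * d) by group]
    rw [hs] at e
    calc d * g * t = d * (g * t * g⁻¹) * g := by group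
      _ = t * (d * g) := by rw [← e]; group
  let f : Ct t →* G ⧸ D := (QuotientGroup.mk' D).comp (Ct t).subtype
  have hf : Function.Surjective f := fun q => by
    obtain ⟨g, rfl⟩ := QuotientGroup.mk_surjective q
    obtain ⟨d, hd, hdg⟩ := hcov g
    refine ⟨⟨d * g, hdg⟩, ?_⟩
    show ((d * g : G) : G ⧸ D) = g
    rw [QuotientGroup.mk_mul, (QuotientGroup.eq_one_iff d).2 hd, one_mul]
  haveI : Fact (Nat.Prime 2) := ⟨Nat.prime_two⟩
  haveI : Group.IsNilpotent (Ct t) := (hc t ht).isNilpotent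
  haveI : Group.IsSolvable (G ⧸ D) := Group.isSolvable_of_surjective hf
  haveI : Group.IsSolvable D := OddChar.oddSolvable D hDodd
  exact (Group.isSolvable_iff_subgroup_quotient D).2 ⟨inferInstance, inferInstance⟩

/-- An insoluble group without normal `2`-subgroups has a simple normal subgroup with trivial
centraliser. -/
theorem exists_socle (hc : CIT G) (ho2 : ∀ N : Subgroup G, N.Normal → IsPGroup 2 N → N = ⊥)
    (hG : ¬ Group.IsSolvable G) :
    ∃ (M : Subgroup G) (_ : M.Normal), IsSimpleGroup M ∧ (∃ a b : M, a * b ≠ b * a) ∧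
      Subgroup.centralizer (M : Set G) = ⊥ := by
  classical
  have hno : ∀ R : Subgroup G, R.Normal → Odd (Nat.card R) → R = ⊥ := fun R hn ho => by
    by_contra hne; exact hG (solvable_of_odd_normal hc ho hne)
  have htop : (⊤ : Subgroup G) ≠ ⊥ := fun e => hG (Group.isSolvable_of_comm fun a b => by
    rw [Subgroup.mem_bot.1 (e ▸ Subgroup.mem_top a : a ∈ (⊥ : Subgroup G)), Subgroup.mem_bot.1 (e ▸ Subgroup.mem_top b : b ∈ (⊥ : Subgroup G))])
  obtain ⟨M, hMn, hM1, -, hmin⟩ := LEWielandt.exists_minimal_normal (N := (⊤ : Subgroup G))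
    inferInstance htop
  haveI := hMn
  haveI : Nontrivial M := (Subgroup.nontrivial_iff_ne_bot M).2 hM1
  have hns : ¬ Group.IsSolvable M := by
    intro hsol
    obtain ⟨p, hp, A, hAn, hA1, hAp⟩ := CoprimeCount.exists_normal_pgroup M hsol
    haveI := Fact.mk hp
    set C := (Cfsg.pCore p M).map M.subtype with hC
    haveI : C.Normal := FittingCores.normal_map_of_characteristic hMn (PBasic.pCore_characteristic p _)
    have hCp : IsPGroup p C := (PBasic.pCore_isPGroup p _).map _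
    have hC1 : C ≠ ⊥ := fun e => hA1 (le_bot_iff.1 ((PBasic.le_pCore hAn hAp).trans
      ((Subgroup.map_eq_bot_iff_of_injective _ M.subtype_injective).1 e).le))
    by_cases hp2 : p = 2
    · subst hp2; exact hC1 (ho2 C inferInstance hCp)
    · obtain ⟨n, hn⟩ := IsPGroup.iff_card.1 hCp
      exact hC1 (hno C inferInstance (hn ▸ (hp.odd_of_ne_two hp2).pow))
  have hsimple : IsSimpleGroup M := by
    obtain ⟨U, hUn, hU1, -, hUmin⟩ := LEWielandt.exists_minimal_normal (N := (⊤ : Subgroup M))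
      inferInstance top_ne_bot
    set U' := U.map M.subtype with hU'
    by_cases hnorm : ∀ g : G, U'.map (MulAut.conj g).toMonoidHom = U'
    · have hUn' : U'.Normal := ⟨fun x hx g => by rw [← hnorm g]; exact ⟨x, hx, rfl⟩⟩
      rcases hmin U' hUn' (Subgroup.map_subtype_le U) with e | e
      · exact absurd ((Subgroup.map_eq_bot_iff_of_injective _ M.subtype_injective).1 e) hU1
      · have hUtop : U = ⊤ := Subgroup.map_injective M.subtype_injective
          (e.trans (by rw [← MonoidHom.range_eq_map, Subgroup.range_subtype]))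
        exact ⟨fun W hW => hUtop ▸ hUmin W hW (hUtop ▸ le_top)⟩
    exfalso
    push Not at hnorm
    obtain ⟨g, hg⟩ := hnorm
    set e : MulAut M := MulAut.conjNormal g
    set W := U.map e.toMonoidHom with hW
    have hWn : W.Normal := hUn.map e.toMonoidHom e.surjective
    have hWU : W ⊓ U = ⊥ := by
      rcases hUmin (W ⊓ U) (by haveI := hUn; haveI := hWn; infer_instance) inf_le_right with h | h
      · exact h
      exfalso
      apply hg
      have hle : U ≤ W := h ▸ inf_le_left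
      have heq : U = W := Subgroup.eq_of_le_of_card_ge hle
        (Subgroup.card_map_of_injective e.injective).le
      conv_rhs => rw [hU', heq, hW]
      rw [hU', Subgroup.map_map, Subgroup.map_map]
      congr 1
    have hW1 : W ≠ ⊥ := fun h => hU1 ((Subgroup.map_eq_bot_iff_of_injective _ e.injective).1 h)
    have hU2 : ¬ IsPGroup 2 U := fun hp => by
      haveI : Fact (Nat.Prime 2) := ⟨Nat.prime_two⟩
      set C := (Cfsg.pCore 2 M).map M.subtype with hC
      haveI : C.Normal := FittingCores.normal_map_of_characteristic hMn (PBasic.pCore_characteristic 2 _)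
      have := ho2 C inferInstance ((PBasic.pCore_isPGroup 2 _).map _)
      rw [Subgroup.map_eq_bot_iff_of_injective _ M.subtype_injective] at this
      exact hU1 (le_bot_iff.1 ((PBasic.le_pCore hUn hp).trans this.le))
    have hWev : Even (Nat.card W) := by
      rw [← Nat.not_odd_iff_even]
      intro ho
      haveI : Group.IsSolvable W := OddChar.oddSolvable W ho
      haveI : Nontrivial W := (Subgroup.nontrivial_iff_ne_bot W).2 hW1
      obtain ⟨p, hp, A, hAn, hA1, hAp⟩ := CoprimeCount.exists_normal_pgroup W ‹_›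
      haveI := Fact.mk hp
      set C₁ := (Cfsg.pCore p W).map W.subtype
      haveI : C₁.Normal := FittingCores.normal_map_of_characteristic hWn (PBasic.pCore_characteristic p _)
      have hC₁p : IsPGroup p C₁ := (PBasic.pCore_isPGroup p _).map _
      set C := (Cfsg.pCore p M).map M.subtype with hC
      haveI : C.Normal := FittingCores.normal_map_of_characteristic hMn (PBasic.pCore_characteristic p _)
      have hp2 : p ≠ 2 := by
        rintro rfl
        obtain ⟨n, hn⟩ := IsPGroup.iff_card.1 hAp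
        have hd : 2 ^ n ∣ Nat.card W := hn ▸ Subgroup.card_subgroup_dvd_card A
        rcases Nat.eq_zero_or_pos n with rfl | hn0
        · exact hA1 (Subgroup.card_eq_one.1 (by rw [hn, pow_zero]))
        · exact Nat.not_even_iff_odd.2 ho (even_iff_two_dvd.2 ((dvd_pow_self 2 hn0.ne').trans hd))
      obtain ⟨n, hn⟩ := IsPGroup.iff_card.1 ((PBasic.pCore_isPGroup p M).map M.subtype)
      have hC0 := hno C inferInstance (hn ▸ (hp.odd_of_ne_two hp2).pow)
      rw [Subgroup.map_eq_bot_iff_of_injective _ M.subtype_injective] at hC0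
      have h1 : C₁ ≤ ⊥ := (PBasic.le_pCore inferInstance hC₁p).trans hC0.le
      rw [le_bot_iff, Subgroup.map_eq_bot_iff_of_injective _ W.subtype_injective] at h1
      exact hA1 (le_bot_iff.1 ((PBasic.le_pCore hAn hAp).trans h1.le))
    obtain ⟨w, hwW, hw⟩ := exists_invol hWev
    obtain ⟨y, hyU, hy1, hyo⟩ := not_isPGroup_exists_odd hU2
    refine hy1 ((hc.subgroup M).odd_comm (ne_one hw) (k := 1) (by rw [hw, pow_one]) hyo ?_)
    exact (Subgroup.commute_of_normal_of_disjoint U W hUn hWn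
      (disjoint_iff.2 (by rw [inf_comm]; exact hWU)) y w hyU hwW).eq
  have hnc : ∃ a b : M, a * b ≠ b * a := by
    by_contra hcon
    push Not at hcon
    exact hns (Group.isSolvable_of_comm hcon)
  refine ⟨M, hMn, hsimple, hnc, ho2 _ inferInstance ?_⟩
  have hMev : Even (Nat.card M) := by
    rw [← Nat.not_odd_iff_even]
    intro ho
    exact hns (OddChar.oddSolvable M ho)
  obtain ⟨z, hzM, hz⟩ := exists_invol hMev
  exact (hc z hz).to_le fun c hc' => mem_Ct.2 (Subgroup.mem_centralizer_iff.1 hc' z hzM).symm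

/-- A good simple normal subgroup with trivial centraliser is everything. -/
theorem ti_top (hc : CIT G) {M : Subgroup G} [hMn : M.Normal] [IsSimpleGroup M] {K : Subgroup M}
    (hK : TIHyp K) : M = ⊤ := by
  classical
  by_contra hMtop
  haveI : Fact (Nat.Prime 2) := ⟨Nat.prime_two⟩
  obtain ⟨z, hzK, hz, hzc⟩ := hK.exists_central
  have hzG : orderOf (z : G) = 2 := by rwa [Subgroup.orderOf_coe]
  obtain ⟨g₀, hg₀⟩ : ∃ g : G, g ∉ M := by
    by_contra hcon
    push Not at hcon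
    exact hMtop ((Subgroup.eq_top_iff' M).2 hcon)
  -- Frattini: an element of `C(z)` outside `M`
  obtain ⟨g₁, hg₁z, hg₁M⟩ : ∃ g ∈ Ct (z : G), g ∉ M := by
    have hconj : orderOf (⟨g₀ * (z : G) * g₀⁻¹, hMn.conj_mem _ z.2 g₀⟩ : M) = 2 := by
      rw [Subgroup.orderOf_mk, order_conj, hzG]
    obtain ⟨c, hc'⟩ := isConj_iff.1 (hK.isConj hz hconj)
    refine ⟨(c : G)⁻¹ * g₀, mem_Ct.2 ?_, fun e => hg₀ ?_⟩
    · have e : (c : G) * z * (c : G)⁻¹ = g₀ * z * g₀⁻¹ := congrArg Subtype.val hc'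
      calc (c : G)⁻¹ * g₀ * z = (c : G)⁻¹ * (g₀ * z * g₀⁻¹) * g₀ := by group
        _ = z * ((c : G)⁻¹ * g₀) := by rw [← e]; group
    · have := mul_mem c.2 e
      rwa [mul_inv_cancel_left] at this
  obtain ⟨g, hgz, hgM, hgsq⟩ : ∃ g ∈ Ct (z : G), g ∉ M ∧ g * g ∈ M := by
    obtain ⟨k, hk⟩ := order_two_pow (hc _ hzG) hg₁z
    have hex : ∃ j, g₁ ^ 2 ^ j ∈ M := ⟨k, by rw [← hk, pow_orderOf_eq_one]; exact M.one_mem⟩
    rcases Nat.eq_zero_or_pos (Nat.find hex) with h0 | h0
    · exact absurd (by simpa [h0] using Nat.find_spec hex) hg₁M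
    refine ⟨g₁ ^ 2 ^ (Nat.find hex - 1), pow_mem hg₁z _, Nat.find_min hex (by omega), ?_⟩
    rw [← pow_add, ← two_mul, ← pow_succ', show Nat.find hex - 1 + 1 = Nat.find hex by omega]
    exact Nat.find_spec hex
  have hKc : ∀ a : M, a ∈ K ↔ (a : G) * z = z * a := fun a => by
    rw [← hK.Ct_invol hz hzK, mem_Ct]
    exact ⟨fun h => congrArg Subtype.val h, fun h => Subtype.ext h⟩
  -- conjugation by elements centralising `z` on `M`
  have hgK : ∀ b ∈ Ct (z : G), ∀ a : M, a ∈ K →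
      (⟨b * a * b⁻¹, hMn.conj_mem _ a.2 b⟩ : M) ∈ K := fun b hb a ha => by
    rw [hKc] at ha ⊢
    have hb' := mem_Ct.1 hb
    have hbi : b⁻¹ * z = z * b⁻¹ := (Commute.inv_left (show Commute b (z : G) from hb')).eq
    show b * a * b⁻¹ * z = z * (b * a * b⁻¹)
    rw [mul_assoc _ b⁻¹, hbi, ← mul_assoc, mul_assoc b, ha, ← mul_assoc, hb']
    group
  have hgN : ∀ b ∈ Ct (z : G), ∀ a : M, a ∈ hK.N →
      (⟨b * a * b⁻¹, hMn.conj_mem _ a.2 b⟩ : M) ∈ hK.N := fun b hb a ha => by
    refine hK.mem_N_of_meet hzK (ne_one hz) ?_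
    have hbz : b⁻¹ * (z : G) * b = z := by
      rw [mul_assoc, ← mem_Ct.1 hb, inv_mul_cancel_left]
    have h1 := hgK b hb ⟨(a : G) * z * (a : G)⁻¹, M.mul_mem (M.mul_mem a.2 z.2) (M.inv_mem a.2)⟩
      (hK.conj_K ha hzK)
    convert h1 using 1
    refine Subtype.ext ?_
    show b * a * b⁻¹ * z * (b * a * b⁻¹)⁻¹ = b * ((a : G) * z * (a : G)⁻¹) * b⁻¹
    rw [show b * a * b⁻¹ * z * (b * a * b⁻¹)⁻¹ = b * a * (b⁻¹ * z * b) * (a : G)⁻¹ * b⁻¹ by group, hbz]
    group
  obtain ⟨u, hu, huN⟩ := hK.exists_invol_not_mem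
  obtain ⟨⟨d₀, hd₀⟩, hd₀1⟩ : ∃ d : hK.D u, d ≠ 1 := by
    haveI : Nontrivial (hK.D u) := Finite.one_lt_card_iff_nontrivial.1 (by
      rw [hK.card_D hu huN]; exact hK.two_le_m)
    exact exists_ne 1
  have hd₀1' : d₀ ≠ 1 := fun e => hd₀1 (Subtype.ext e)
  have hd₀K : d₀ ∉ K := fun e => hd₀1' (hK.D_inf_K hu huN e hd₀)
  obtain ⟨a, haK, d, hd, hd1, hxd⟩ := hK.exists_conj_D hu huN
    (x := ⟨g * d₀ * g⁻¹, hMn.conj_mem _ d₀.2 g⟩) (hgN g hgz d₀ hd₀.1) (fun e => hd₀K (by
      have h1 := hgK g⁻¹ (inv_mem hgz) _ e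
      convert h1 using 1
      exact Subtype.ext (by show (d₀ : G) = g⁻¹ * (g * d₀ * g⁻¹) * g⁻¹⁻¹; group)))
  set g' := (a : G)⁻¹ * g with hg'
  have hg'M : g' ∉ M := fun e => hgM (by
    have := mul_mem a.2 e
    rwa [hg', mul_inv_cancel_left] at this)
  have hg'z : g' ∈ Ct (z : G) := mul_mem (inv_mem (mem_Ct.2 ((hKc a).1 haK))) hgz
  have hg'd : g' * d₀ * g'⁻¹ = (d : G) := by
    have e : g * d₀ * g⁻¹ = (a : G) * d * (a : G)⁻¹ := congrArg Subtype.val hxd
    calc g' * d₀ * g'⁻¹ = (a : G)⁻¹ * (g * d₀ * g⁻¹) * a := by rw [hg']; group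
      _ = d := by rw [e]; group
  have hg'D : ∀ c : M, c ∈ hK.D u → (⟨g' * c * g'⁻¹, hMn.conj_mem _ c.2 g'⟩ : M) ∈ hK.D u := by
    intro c hc'
    refine hK.Ct_inf_N hu huN hd hd1 (mem_Ct.2 (Subtype.ext ?_)) (hgN g' hg'z c hc'.1)
    show g' * c * g'⁻¹ * d = d * (g' * c * g'⁻¹)
    rw [← hg'd]
    have e : (c : G) * d₀ = d₀ * c := congrArg Subtype.val (hK.comm_D hu huN hc' hd₀)
    calc g' * c * g'⁻¹ * (g' * d₀ * g'⁻¹) = g' * ((c : G) * d₀) * g'⁻¹ := by group
      _ = _ := by rw [e]; group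
  have hg'sq : g' * g' ∈ M := by
    rw [show g' * g' = (a : G)⁻¹ * (g * (a : G)⁻¹ * g⁻¹) * (g * g) by rw [hg']; group]
    exact M.mul_mem (M.mul_mem (M.inv_mem a.2) (hMn.conj_mem _ (M.inv_mem a.2) g)) hgsq
  -- the square lies in the two-point stabiliser, hence is trivial
  have hsq1 : g' * g' = 1 := by
    have hK2 : (⟨g' * g', hg'sq⟩ : M) ∈ K := by
      rw [hKc]; exact mem_Ct.1 (mul_mem hg'z hg'z)
    set q : M := ⟨g' * g', hg'sq⟩ with hq
    have hqd : q * d₀ * q⁻¹ ∈ hK.D u := by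
      have h1 := hg'D _ (hg'D d₀ hd₀)
      convert h1 using 1
      refine Subtype.ext ?_
      show g' * g' * d₀ * (g' * g')⁻¹ = g' * (g' * d₀ * g'⁻¹) * g'⁻¹
      group
    have hcK : q * d₀ * q⁻¹ * d₀⁻¹ ∈ K := by
      rw [show q * d₀ * q⁻¹ * d₀⁻¹ = q * (d₀ * q⁻¹ * d₀⁻¹) by group]
      exact mul_mem hK2 (hK.conj_K hd₀.1 (inv_mem hK2))
    have hc1 := hK.D_inf_K hu huN hcK (mul_mem hqd (inv_mem hd₀))
    by_contra hne
    refine hd₀1' (hK.D_cent_K hu huN hd₀ hK2 (fun e => hne (congrArg Subtype.val e)) ?_)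
    calc d₀ * q = (q * d₀ * q⁻¹ * d₀⁻¹)⁻¹ * (q * d₀) := by group
      _ = q * d₀ := by rw [hc1, inv_one, one_mul]
  have hg'1 : g' ≠ 1 := fun e => hg'M (e ▸ M.one_mem)
  have hg'o : orderOf g' = 2 := order_two_of_sq hsq1 hg'1
  -- `g'` inverts the two-point stabiliser
  let φ : hK.D u →* hK.D u :=
    { toFun := fun c => ⟨_, hg'D c c.2⟩
      map_one' := Subtype.ext (Subtype.ext (by simp))
      map_mul' := fun c c' => Subtype.ext (Subtype.ext (by simp [mul_assoc])) }
  have hfp : MonoidHom.FixedPointFree φ := fun c hc' => by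
    have e : g' * ((c : M) : G) * g'⁻¹ = c := congrArg (fun x : hK.D u => ((x : M) : G)) hc'
    refine Subtype.ext (Subtype.ext (eq_one_of_odd (hc _ hg'o) (mem_Ct.2 (mul_inv_eq_iff_eq_mul.1 e).symm) ?_))
    rw [Subgroup.orderOf_coe, Subgroup.orderOf_coe]
    have := orderOf_dvd_natCard (c : hK.D u)
    rw [hK.card_D hu huN] at this
    exact hK.odd_m.of_dvd_nat this
  have hii : Function.Involutive φ := fun c => Subtype.ext (Subtype.ext (by
    show g' * (g' * ((c : M) : G) * g'⁻¹) * g'⁻¹ = c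
    rw [show g' * (g' * ((c : M) : G) * g'⁻¹) * g'⁻¹ = g' * g' * c * (g' * g')⁻¹ by group, hsq1,
      one_mul, inv_one, mul_one]))
  have hinv : g' * (d₀ : G) * g'⁻¹ = (d₀ : G)⁻¹ := congrArg (fun x : hK.D u => ((x : M) : G))
    (congrFun (hfp.coe_eq_inv_of_involutive hii) ⟨d₀, hd₀⟩)
  have hu' : (u : G) * d₀ * (u : G) = (d₀ : G)⁻¹ := congrArg Subtype.val (hK.invert hu huN hd₀)
  have hgu : g' * (u : G) ∈ Ct (d₀ : G) := by
    rw [mem_Ct]
    have e1 : (u : G) * d₀ = (d₀ : G)⁻¹ * u := by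
      have huu : (u : G) * (u : G) = 1 := congrArg Subtype.val (mul_self hu)
      rw [← hu', mul_assoc _ (u : G) (u : G), huu, mul_one]
    calc g' * (u : G) * d₀ = g' * (d₀ : G)⁻¹ * g'⁻¹ * (g' * u) := by rw [mul_assoc, e1]; group
      _ = (g' * (d₀ : G) * g'⁻¹)⁻¹ * (g' * u) := by group
      _ = d₀ * (g' * u) := by rw [hinv, inv_inv]
  have hd₀odd : Odd (orderOf (d₀ : G)) := by
    rw [Subgroup.orderOf_coe]
    have := Subgroup.orderOf_dvd_natCard _ hd₀
    rw [hK.card_D hu huN] at this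
    exact hK.odd_m.of_dvd_nat this
  have hodd' : Odd (orderOf (g' * (u : G))) := by
    rw [← Nat.not_even_iff_odd]
    intro he
    obtain ⟨s, hs, hso⟩ := exists_invol (K := Subgroup.zpowers (g' * (u : G))) (by rwa [Nat.card_zpowers])
    have hsd := mem_Ct.1 (Subgroup.zpowers_le.2 hgu hs)
    exact hd₀1' (Subtype.ext (eq_one_of_odd (hc s hso) (mem_Ct.2 hsd.symm) hd₀odd))
  refine hg'M ?_
  obtain ⟨j, hj⟩ := hodd'
  have h1 : ((g' * (u : G) : G) : G ⧸ M) = ((g' : G) : G ⧸ M) := by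
    rw [QuotientGroup.mk_mul, (QuotientGroup.eq_one_iff _).2 u.2, mul_one]
  have h2 : ((g' : G) : G ⧸ M) ^ (2 * j + 1) = 1 := by
    rw [← h1, ← QuotientGroup.mk_pow, ← hj, pow_orderOf_eq_one, QuotientGroup.mk_one]
  rw [pow_succ, pow_mul, pow_two, ← QuotientGroup.mk_mul, hsq1, QuotientGroup.mk_one, one_pow, one_mul]
    at h2
  exact (QuotientGroup.eq_one_iff g').1 h2


end Cfsg.Agent.CITStruct
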